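import Mathlib

/-!
# The arithmetic of even degree
-/

set_option autoImplicit false

namespace Cfsg.Lib.A5Stab

/-- The first equation for a small triple. -/
abbrev Sol (N μ s : ℕ) : Prop :=
  15 + N * ((μ * s - 1) * (μ * s - 1)) = s * s * ((4 * μ + 1) * (2 * μ + 1)) ∨
    15 + N * ((μ * s - 1) * (μ * s - 1)) = s * s * ((4 * μ - 1) * (2 * μ - 1))

/-- The small solutions of the first equation. -/
theorem small_sq : ∀ μ < 32, ∀ s < 32, ¬ (μ * s < 32 ∧ μ * s % 2 = 1 ∧ 3 ≤ μ * s ∧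
    (Sol 1 μ s ∨ (Sol 10 μ s ∧ μ * s ≠ 3 ∧ μ * s ≠ 25) ∨ Sol 15 μ s ∨ (Sol 16 μ s ∧ μ * s ≠ 31))) := by decide +kernel

/-- The small solutions of the second equation. -/
theorem small_two : ∀ μ < 12, ∀ s < 61,
    ¬ (0 < μ ∧ s % 2 = 1 ∧ s * s * (μ * μ + 2) + 45 * (μ * s) = 12 * (s * s * μ) + 60) := by decide +kernel

/-- The first equation. -/
theorem arith_sq {μ s N Q : ℕ} (hμ : 0 < μ) (hs : Odd s) (hQ : Q + 1 = μ * s) (hQe : Q % 2 = 0) (hQ2 : 2 ≤ Q)
    (hN : N = 1 ∨ N = 10 ∨ N = 15 ∨ N = 16)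
    (h : 15 + N * (Q * Q) = s * s * ((4 * μ + 1) * (2 * μ + 1)) ∨
      15 + N * (Q * Q) = s * s * ((4 * μ - 1) * (2 * μ - 1))) :
    (N = 10 ∧ (Q = 2 ∨ Q = 24)) ∨ (N = 16 ∧ Q = 30) := by
  have hQe' : Q = μ * s - 1 := by omega
  have hs1 : 1 ≤ s := hs.pos
  suffices hx : Q < 31 by
    have hlt : μ * s < 32 := by omega
    have hμlt : μ < 32 := lt_of_le_of_lt (Nat.le_mul_of_pos_right μ hs.pos) hlt
    have hslt : s < 32 := lt_of_le_of_lt (Nat.le_mul_of_pos_left s hμ) hlt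
    have hsmall := small_sq μ hμlt s hslt
    have h' : Sol N μ s := by
      rw [hQe'] at h
      exact h
    rcases hN with rfl | rfl | rfl | rfl
    · exact absurd ⟨hlt, by omega, by omega, Or.inl h'⟩ hsmall
    · refine Or.inl ⟨rfl, ?_⟩
      by_contra hne
      exact hsmall ⟨hlt, by omega, by omega, Or.inr (Or.inl ⟨h', by omega, by omega⟩)⟩
    · exact absurd ⟨hlt, by omega, by omega, Or.inr (Or.inr (Or.inl h'))⟩ hsmall
    · refine Or.inr ⟨rfl, ?_⟩
      by_contra hne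
      exact hsmall ⟨hlt, by omega, by omega, Or.inr (Or.inr (Or.inr ⟨h', by omega⟩))⟩
  have hμo : Odd μ := (Nat.odd_mul.1 (Nat.odd_iff.2 (show μ * s % 2 = 1 by omega))).1
  have key : ∀ c : ℕ, 15 + N * (Q * Q) = c * (s * s) → 0 < c := fun c hc => Nat.pos_of_ne_zero fun h0 => by
    rw [h0, zero_mul] at hc; omega
  by_contra hQ31
  push Not at hQ31
  have hQQ : 31 * Q ≤ Q * Q := Nat.mul_le_mul_right Q hQ31
  rcases (show μ = 1 ∨ μ = 3 ∨ 5 ≤ μ by obtain ⟨j, rfl⟩ := hμo; omega) with rfl | rfl | hμ5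
  · rw [one_mul] at hQ
    subst hQ
    rcases hN with rfl | rfl | rfl | rfl <;> rcases h with h | h <;> norm_num at h <;> nlinarith
  · rcases hN with rfl | rfl | rfl | rfl <;> rcases h with h | h <;> norm_num at h <;> nlinarith
  · have hμμ : 25 * (8 * (μ * μ) + 6 * μ + 1) ≤ 231 * (μ * μ) := by nlinarith
    have hup : 25 * (15 + N * (Q * Q)) ≤ 231 * ((Q + 1) * (Q + 1)) := by
      rw [hQ]
      rcases h with h | h <;> rw [h]
      · calc 25 * (s * s * ((4 * μ + 1) * (2 * μ + 1))) = s * s * (25 * (8 * (μ * μ) + 6 * μ + 1)) := by ring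
          _ ≤ s * s * (231 * (μ * μ)) := Nat.mul_le_mul_left _ hμμ
          _ = 231 * (μ * s * (μ * s)) := by ring
      · calc 25 * (s * s * ((4 * μ - 1) * (2 * μ - 1))) ≤ 25 * (s * s * ((4 * μ + 1) * (2 * μ + 1))) := by
              gcongr <;> omega
          _ = s * s * (25 * (8 * (μ * μ) + 6 * μ + 1)) := by ring
          _ ≤ s * s * (231 * (μ * μ)) := Nat.mul_le_mul_left _ hμμ
          _ = 231 * (μ * s * (μ * s)) := by ring
    have hlow : 5 * ((Q + 1) * (Q + 1)) ≤ 15 + N * (Q * Q) := by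
      rw [hQ]
      rcases h with h | h <;> rw [h]
      · nlinarith
      · obtain ⟨ν, rfl⟩ : ∃ ν, μ = ν + 5 := ⟨μ - 5, by omega⟩
        rw [show 4 * (ν + 5) - 1 = 4 * ν + 19 by omega, show 2 * (ν + 5) - 1 = 2 * ν + 9 by omega]
        nlinarith
    rcases hN with rfl | rfl | rfl | rfl <;> nlinarith

/-- The second equation. -/
theorem arith_two {μ s N Q k : ℕ} (hμ : 0 < μ) (hs : Odd s) (hQ : 2 * Q + 1 = μ * s) (hQ2 : 2 ≤ Q)
    (hk : k + Q = 2 * (Q * Q)) (hN : N = 1 ∨ N = 15 ∨ N = 16)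
    (h : 15 + N * k = s * s * ((4 * μ + 1) * (2 * μ + 1)) ∨
      15 + N * k = s * s * ((4 * μ - 1) * (2 * μ - 1))) : False := by
  have hs1 : 1 ≤ s := hs.pos
  have hxx : (2 * Q + 1) * (2 * Q + 1) = μ * s * (μ * s) := by rw [hQ]
  obtain ⟨ν, rfl⟩ : ∃ ν, μ = ν + 1 := ⟨μ - 1, by omega⟩
  rcases h with h | h
  · have hge : 8 * ((ν + 1) * s * ((ν + 1) * s)) ≤ s * s * ((4 * (ν + 1) + 1) * (2 * (ν + 1) + 1)) := by
      nlinarith [Nat.zero_le (s * s * ν), Nat.zero_le (s * s)]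
    rcases hN with rfl | rfl | rfl <;> nlinarith
  · rw [show 4 * (ν + 1) - 1 = 4 * ν + 3 by omega, show 2 * (ν + 1) - 1 = 2 * ν + 1 by omega] at h
    rcases hN with rfl | rfl | rfl
    · have hge : 3 * ((ν + 1) * s * ((ν + 1) * s)) ≤ s * s * ((4 * ν + 3) * (2 * ν + 1)) := by
        nlinarith [Nat.zero_le (s * s * ν), Nat.zero_le (s * s * (ν * ν))]
      nlinarith
    · -- fifteen
      have e1 : 2 * (15 + 15 * k) + 90 * Q = 30 + 60 * (Q * Q) + 60 * Q := by
        have e2 : 30 * (k + Q) = 60 * (Q * Q) := by rw [hk]; ring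
        linarith
      have hQx : 2 * Q + 1 = (ν + 1) * s := hQ
      have he : s * s * ((ν + 1) * (ν + 1) + 2) + 45 * ((ν + 1) * s) = 12 * (s * s * (ν + 1)) + 60 := by
        nlinarith [h, e1, hQx, hxx]
      have hsd : s ∣ 60 := by
        have h1 : s ∣ 12 * (s * s * (ν + 1)) + 60 := by
          rw [← he]
          exact dvd_add ((dvd_mul_right s s).mul_right _) ((dvd_mul_left s (ν + 1)).mul_left 45)
        exact (Nat.dvd_add_right (((dvd_mul_right s s).mul_right _).mul_left 12)).1 h1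
      have hs60 : s < 61 := Nat.lt_succ_of_le (Nat.le_of_dvd (by norm_num) hsd)
      have hν : ν + 1 < 12 := by
        by_contra hc
        push Not at hc
        have h12 : 12 * (ν + 1) ≤ (ν + 1) * (ν + 1) := Nat.mul_le_mul_right _ hc
        nlinarith
      exact small_two (ν + 1) hν s hs60 ⟨by omega, Nat.odd_iff.1 hs, he⟩
    · -- sixteen
      have e2 : 16 * (k + Q) = 32 * (Q * Q) := by rw [hk]; ring
      have he : s * s + 24 * ((ν + 1) * s) = 6 * ((ν + 1) * (s * s)) + 31 := by nlinarith [h, e2, hQ, hxx]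
      have hsd : s ∣ 31 := by
        have h1 : s ∣ 6 * ((ν + 1) * (s * s)) + 31 := by
          rw [← he]
          exact dvd_add (dvd_mul_right s s) ((dvd_mul_left s (ν + 1)).mul_left 24)
        exact (Nat.dvd_add_right (((dvd_mul_right s s).mul_left _).mul_left 6)).1 h1
      rcases (Nat.dvd_prime (by norm_num : Nat.Prime 31)).1 hsd with rfl | rfl <;> omega

end Cfsg.Lib.A5Stab
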