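import Cfsg.Agent.Lib.A5Stab.Facts
import Cfsg.Agent.Lib.A4Stab.Point
import Cfsg.Agent.Lib.A4Stab.Single

/-!
# Doubly transitive groups with two-point stabilizer `A₅`: first properties
-/

set_option autoImplicit false
set_option linter.style.haveILetI false
set_option linter.unusedSectionVars false

namespace Cfsg.Lib.A5Stab

open Subgroup MulAction
open Cfsg.Lib.A4Stab (pairStab mem_pairStab conj_smul fix mem_fix_singleton mem_fix_pair Swaps IsT
  card_of_pairs pair_count card_fix_pairs card_swap_pairs fix_conj_pair fix_conj_singleton fix_pair_mul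
  eq_one_of_fix_univ smul_smul_of_sq)

universe u w

variable {G : Type u} [Group G] [Finite G] {Ω : Type w} [Finite Ω] [MulAction G Ω] [FaithfulSMul G Ω]

/-- A doubly transitive group with two-point stabilizer `A₅`. -/
structure Ctx (G : Type u) [Group G] {Ω : Type w} [MulAction G Ω] (a b : Ω) : Prop where
  two : ∀ {p q r s : Ω}, p ≠ q → r ≠ s → ∃ g : G, g • p = r ∧ g • q = s
  ne : a ≠ b
  iso : Nonempty (↥(pairStab G a b) ≃* AltFive)

namespace Ctx

variable {a b : Ω}

theorem change (c : Ctx G a b) {p q : Ω} (h : p ≠ q) : Ctx G p q := by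
  obtain ⟨g, hga, hgb⟩ := c.two c.ne h
  refine ⟨c.two, h, ⟨?_⟩⟩
  have e : pairStab G p q = (pairStab G a b).map (MulAut.conj g).toMonoidHom := by
    ext x
    rw [mem_map_equiv, MulAut.conj_symm_apply, mem_pairStab, mem_pairStab]
    simp only [mul_smul, inv_smul_eq_iff, hga, hgb]
  exact (MulEquiv.subgroupCongr e).trans (((MulAut.conj g).subgroupMap (pairStab G a b)).symm.trans c.iso.some)

theorem card_pairStab (c : Ctx G a b) : Nat.card ↥(pairStab G a b) = 60 := by
  rw [Nat.card_congr c.iso.some.toEquiv, nat_card_alternatingGroup, Nat.card_fin]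
  rfl

theorem sq_of_commute (c : Ctx G a b) {x y : G} (hx : x ∈ pairStab G a b) (hy : y ∈ pairStab G a b)
    (hxo : orderOf x = 2) (h : y * x = x * y) : y * y = 1 := by
  obtain ⟨e⟩ := c.iso
  have h2 : e ⟨y, hy⟩ * e ⟨y, hy⟩ = 1 := by_contra fun hne => sq_of_commute_invol (e ⟨x, hx⟩) (e ⟨y, hy⟩)
    ⟨by rw [← map_mul, ← map_one e]; exact congrArg e (Subtype.ext (Invol.inv_mul_self hxo)),
      fun h => Invol.ne_one hxo (congrArg Subtype.val (e.injective (h.trans (map_one e).symm))),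
      by rw [← map_mul, ← map_mul]; exact congrArg e (Subtype.ext h), hne⟩
  rw [← map_mul, ← map_one e] at h2
  exact congrArg Subtype.val (e.injective h2)

theorem exists_conj (c : Ctx G a b) {x y : G} (hx : x ∈ pairStab G a b) (hy : y ∈ pairStab G a b)
    (hxo : orderOf x = 2) (hyo : orderOf y = 2) : ∃ h ∈ pairStab G a b, h * x * h⁻¹ = y := by
  obtain ⟨e⟩ := c.iso
  obtain ⟨g, hg⟩ := conj_invol (e ⟨x, hx⟩)
    (by rw [← map_mul, ← map_one e]; exact congrArg e (Subtype.ext (Invol.inv_mul_self hxo)))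
    (fun h => Invol.ne_one hxo (congrArg Subtype.val (e.injective (h.trans (map_one e).symm))))
    (e ⟨y, hy⟩) (by rw [← map_mul, ← map_one e]; exact congrArg e (Subtype.ext (Invol.inv_mul_self hyo)))
    (fun h => Invol.ne_one hyo (congrArg Subtype.val (e.injective (h.trans (map_one e).symm))))
  refine ⟨_, (e.symm g).2, ?_⟩
  have h2 := congrArg e.symm hg
  simp only [map_mul, map_inv, MulEquiv.symm_apply_apply] at h2
  exact congrArg Subtype.val h2

/-- Counting elements of the pair stabilizer through the isomorphism. -/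
theorem card_transfer (c : Ctx G a b) (P : G → Prop) (Q : AltFive → Prop) [DecidablePred Q]
    (e : ↥(pairStab G a b) ≃* AltFive) (h : ∀ x : ↥(pairStab G a b), P x ↔ Q (e x)) :
    {x : G | x ∈ pairStab G a b ∧ P x}.ncard = (Finset.univ.filter Q).card := by
  rw [← Nat.card_coe_set_eq, ← Fintype.card_subtype, ← Nat.card_eq_fintype_card]
  exact Nat.card_congr
    { toFun := fun x => ⟨e ⟨x.1, x.2.1⟩, (h _).1 x.2.2⟩
      invFun := fun z => ⟨(e.symm z.1 : G), (e.symm z.1).2, (h _).2 (by rw [e.apply_symm_apply]; exact z.2)⟩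
      left_inv := fun x => by simp
      right_inv := fun z => by simp }

theorem card_centralizer_invol (c : Ctx G a b) {x : G} (hx : x ∈ pairStab G a b) (hxo : orderOf x = 2) :
    Nat.card ↥(pairStab G a b ⊓ centralizer ({x} : Set G)) = 4 := by
  classical
  obtain ⟨e⟩ := c.iso
  rw [← card_cent (e ⟨x, hx⟩)
    (by rw [← map_mul, ← map_one e]; exact congrArg e (Subtype.ext (Invol.inv_mul_self hxo)))
    (fun h => Invol.ne_one hxo (congrArg Subtype.val (e.injective (h.trans (map_one e).symm)))),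
    ← c.card_transfer (fun y => y * x = x * y) _ e fun y => by
      rw [← map_mul, ← map_mul, e.injective.eq_iff, Subtype.ext_iff]
      rfl, ← Nat.card_coe_set_eq]
  exact Nat.card_congr (Equiv.subtypeEquivRight fun y => by
    rw [mem_inf, mem_centralizer_singleton_iff]; rfl)

theorem ncard_sq_one (c : Ctx G a b) : {x : G | x ∈ pairStab G a b ∧ x * x = 1}.ncard = 16 := by
  classical
  obtain ⟨e⟩ := c.iso
  rw [← card_sq_one]
  exact c.card_transfer (fun y => y * y = 1) _ e fun y => by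
    rw [← map_mul, ← map_one e, e.injective.eq_iff, Subtype.ext_iff]
    rfl

end Ctx

/-- The base data: an involution of the pair stabilizer and a second one commuting with it. -/
structure Base (G : Type u) [Group G] {Ω : Type w} [MulAction G Ω] (a b : Ω) (t v : G) : Prop extends Ctx G a b where
  htH : t ∈ pairStab G a b
  ht : orderOf t = 2
  hvH : v ∈ pairStab G a b
  hv : orderOf v = 2
  htv : t ≠ v
  commute_tv : Commute t v

theorem exists_base_of {a b : Ω} (c : Ctx G a b) {t : G} (htH : t ∈ pairStab G a b) (ht : orderOf t = 2) :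
    ∃ v : G, Base G a b t v := by
  classical
  have h4 := c.card_centralizer_invol htH ht
  have hsub : ¬ ((pairStab G a b ⊓ centralizer ({t} : Set G) : Subgroup G) : Set G) ⊆ {1, t} := fun hs => by
    have h := Set.ncard_le_ncard hs
    rw [← Nat.card_coe_set_eq] at h
    have h' := h.trans (Set.ncard_insert_le _ _)
    rw [Set.ncard_singleton] at h'
    exact absurd (h4 ▸ (show Nat.card ↥(pairStab G a b ⊓ centralizer ({t} : Set G)) ≤ 2 from h')) (by norm_num)
  obtain ⟨v, hv, hv'⟩ := Set.not_subset.1 hsub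
  simp only [Set.mem_insert_iff, Set.mem_singleton_iff, not_or] at hv'
  obtain ⟨hvH, hvC⟩ := mem_inf.1 hv
  exact ⟨v, c, htH, ht, hvH, Invol.orderOf_eq_two_of hv'.1
    (c.sq_of_commute htH hvH ht (mem_centralizer_singleton_iff.1 hvC)), Ne.symm hv'.2,
    (mem_centralizer_singleton_iff.1 hvC).symm⟩

theorem exists_base {a b : Ω} (c : Ctx G a b) : ∃ t v : G, Base G a b t v := by
  haveI : Fact (Nat.Prime 2) := ⟨Nat.prime_two⟩
  obtain ⟨t, ht⟩ := exists_prime_orderOf_dvd_card' (G := pairStab G a b) 2 (by rw [c.card_pairStab]; norm_num)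
  obtain ⟨v, B⟩ := exists_base_of c t.2 (by rw [Subgroup.orderOf_coe, ht])
  exact ⟨t, v, B⟩

/-- The four group. -/
abbrev fourAt (G : Type u) [Group G] {Ω : Type w} [MulAction G Ω] (a b : Ω) (t : G) : Subgroup G :=
  pairStab G a b ⊓ centralizer ({t} : Set G)

namespace Base

variable {a b : Ω} {t v : G}

theorem htt (B : Base G a b t v) : t * t = 1 := Invol.inv_mul_self B.ht

theorem hvv (B : Base G a b t v) : v * v = 1 := Invol.inv_mul_self B.hv

theorem t_mem_four (B : Base G a b t v) : t ∈ fourAt G a b t :=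
  mem_inf.2 ⟨B.htH, mem_centralizer_singleton_iff.2 rfl⟩

theorem v_mem_four (B : Base G a b t v) : v ∈ fourAt G a b t :=
  mem_inf.2 ⟨B.hvH, mem_centralizer_singleton_iff.2 B.commute_tv.eq.symm⟩

theorem card_four (B : Base G a b t v) : Nat.card (fourAt G a b t) = 4 := B.toCtx.card_centralizer_invol B.htH B.ht

theorem four_sq (B : Base G a b t v) {x : G} (hx : x ∈ fourAt G a b t) : x * x = 1 :=
  B.toCtx.sq_of_commute B.htH (mem_inf.1 hx).1 B.ht (mem_centralizer_singleton_iff.1 (mem_inf.1 hx).2)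

theorem tv_ne_one (B : Base G a b t v) : t * v ≠ 1 := fun h =>
  B.htv ((mul_eq_one_iff_eq_inv.1 h).trans (Invol.inv_eq_self B.hv))

theorem orderOf_tv (B : Base G a b t v) : orderOf (t * v) = 2 :=
  Invol.orderOf_eq_two_of B.tv_ne_one (B.four_sq (mul_mem B.t_mem_four B.v_mem_four))

theorem four_cases (B : Base G a b t v) {x : G} (hx : x ∈ fourAt G a b t) :
    x = 1 ∨ x = t ∨ x = v ∨ x = t * v := by
  haveI : Nontrivial (fourAt G a b t) := Finite.one_lt_card_iff_nontrivial.1 (by rw [B.card_four]; norm_num)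
  haveI : IsKleinFour (fourAt G a b t) := ⟨B.card_four, (Monoid.exponent_eq_prime_iff Nat.prime_two).2 fun x hx =>
    orderOf_eq_prime (Subtype.ext (by rw [SubmonoidClass.coe_pow, sq]; exact B.four_sq x.2)) hx⟩
  by_cases hx1 : x = 1
  · exact Or.inl hx1
  · exact Or.inr (Invol.klein_mem_cases B.t_mem_four B.v_mem_four (Invol.ne_one B.ht) (Invol.ne_one B.hv) B.htv hx hx1)

theorem mem_four_iff (B : Base G a b t v) {x : G} :
    x ∈ fourAt G a b t ↔ x = 1 ∨ x = t ∨ x = v ∨ x = t * v := by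
  refine ⟨B.four_cases, ?_⟩
  rintro (rfl | rfl | rfl | rfl)
  exacts [one_mem _, B.t_mem_four, B.v_mem_four, mul_mem B.t_mem_four B.v_mem_four]

theorem commute_four_of (B : Base G a b t v) {g : G} (h1 : Commute g t) (h2 : Commute g v) {x : G}
    (hx : x ∈ fourAt G a b t) : Commute g x := by
  rcases B.four_cases hx with rfl | rfl | rfl | rfl
  exacts [Commute.one_right g, h1, h2, h1.mul_right h2]

theorem four_fix (B : Base G a b t v) {p : Ω} (hp : p ∈ (fix {t, v} : Set Ω)) {x : G} (hx : x ∈ fourAt G a b t) :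
    x • p = p := by
  obtain ⟨h1, h2⟩ := mem_fix_pair.1 hp
  rcases B.four_cases hx with rfl | rfl | rfl | rfl
  · exact one_smul G p
  · exact h1
  · exact h2
  · rw [mul_smul, h2, h1]

/-- Two fixed points of the four group serve as a new base. -/
theorem change (B : Base G a b t v) {p q : Ω} (hne : p ≠ q) (hp : p ∈ (fix {t, v} : Set Ω))
    (hq : q ∈ (fix {t, v} : Set Ω)) : Base G p q t v :=
  ⟨B.toCtx.change hne, mem_pairStab.2 ⟨(mem_fix_pair.1 hp).1, (mem_fix_pair.1 hq).1⟩, B.ht,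
    mem_pairStab.2 ⟨(mem_fix_pair.1 hp).2, (mem_fix_pair.1 hq).2⟩, B.hv, B.htv, B.commute_tv⟩

theorem four_change (B : Base G a b t v) {p q : Ω} (hne : p ≠ q) (hp : p ∈ (fix {t, v} : Set Ω))
    (hq : q ∈ (fix {t, v} : Set Ω)) : fourAt G p q t = fourAt G a b t := by
  ext x
  rw [(B.change hne hp hq).mem_four_iff, B.mem_four_iff]

/-- An element of `C(t)` fixing two fixed points of `t` squares to one. -/
theorem sq_of_fix_two (B : Base G a b t v) {g : G} (hg : g ∈ centralizer ({t} : Set G)) {p q : Ω}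
    (hne : p ≠ q) (hp : t • p = p) (hq : t • q = q) (hgp : g • p = p) (hgq : g • q = q) : g * g = 1 :=
  (B.toCtx.change hne).sq_of_commute (mem_pairStab.2 ⟨hp, hq⟩) (mem_pairStab.2 ⟨hgp, hgq⟩) B.ht
    (mem_centralizer_singleton_iff.1 hg)

/-- An element of `C(t)` fixing two fixed points of the four group lies in it. -/
theorem mem_four_of_fix (B : Base G a b t v) {g : G} (hgc : g ∈ centralizer ({t} : Set G)) {p q : Ω}
    (hne : p ≠ q) (hp : p ∈ (fix {t, v} : Set Ω)) (hq : q ∈ (fix {t, v} : Set Ω)) (hgp : g • p = p)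
    (hgq : g • q = q) : g ∈ fourAt G a b t := by
  rw [← B.four_change hne hp hq]
  exact mem_inf.2 ⟨mem_pairStab.2 ⟨hgp, hgq⟩, hgc⟩

theorem conj_t_eq {k : G} (hk : k ∈ centralizer ({t} : Set G)) : k * t * k⁻¹ = t := by
  rw [mem_centralizer_singleton_iff.1 hk, mul_inv_cancel_right]

/-- An element of `C(t)` mapping two common fixed points to `a, b` normalizes the four group. -/
theorem mem_normalizer_of_map (B : Base G a b t v) {g : G} (hg : g ∈ centralizer ({t} : Set G)) {p q : Ω}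
    (hp : p ∈ (fix {t, v} : Set Ω)) (hq : q ∈ (fix {t, v} : Set Ω)) (hga : g • p = a) (hgb : g • q = b) :
    g ∈ normalizer (fourAt G a b t : Set G) := by
  have hsub : ∀ x ∈ fourAt G a b t, g * x * g⁻¹ ∈ fourAt G a b t := fun x hx =>
    mem_inf.2 ⟨mem_pairStab.2 ⟨by rw [← hga, conj_smul, B.four_fix hp hx],
      by rw [← hgb, conj_smul, B.four_fix hq hx]⟩, mul_mem (mul_mem hg (mem_inf.1 hx).2) (inv_mem hg)⟩
  have heq : (fourAt G a b t).map (MulAut.conj g).toMonoidHom = fourAt G a b t :=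
    eq_of_le_of_card_ge (by rintro _ ⟨x, hx, rfl⟩; exact hsub x hx)
      (by rw [card_map_of_injective (MulAut.conj g).injective])
  refine mem_normalizer_iff.2 fun x => ⟨hsub x, fun hx => ?_⟩
  rw [← heq] at hx
  obtain ⟨y, hy, hye⟩ := hx
  rwa [(MulAut.conj g).injective hye] at hy

theorem exists_centralizer_map (B : Base G a b t v) {p q : Ω} (hne : p ≠ q) (hp : t • p = p) (hq : t • q = q) :
    ∃ k ∈ centralizer ({t} : Set G), k • p = a ∧ k • q = b := by
  obtain ⟨g, hga, hgb⟩ := B.toCtx.two hne B.toCtx.ne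
  have hm : g * t * g⁻¹ ∈ pairStab G a b :=
    mem_pairStab.2 ⟨by rw [← hga, conj_smul, hp], by rw [← hgb, conj_smul, hq]⟩
  obtain ⟨h, hh, hconj⟩ := B.toCtx.exists_conj hm B.htH (by rw [Invol.orderOf_conj_eq, B.ht]) B.ht
  refine ⟨h * g, mem_centralizer_singleton_iff.2 ?_, ?_, ?_⟩
  · calc h * g * t = (h * (g * t * g⁻¹) * h⁻¹) * (h * g) := by group
      _ = t * (h * g) := by rw [hconj]
  · rw [mul_smul, hga]; exact (mem_pairStab.1 hh).1
  · rw [mul_smul, hgb]; exact (mem_pairStab.1 hh).2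

theorem exists_normalizer_map (B : Base G a b t v) {p q : Ω} (hne : p ≠ q) (hp : p ∈ (fix {t, v} : Set Ω))
    (hq : q ∈ (fix {t, v} : Set Ω)) :
    ∃ k ∈ centralizer ({t} : Set G) ⊓ normalizer (fourAt G a b t : Set G), k • p = a ∧ k • q = b := by
  obtain ⟨g, hg, hga, hgb⟩ := B.exists_centralizer_map hne (mem_fix_pair.1 hp).1 (mem_fix_pair.1 hq).1
  exact ⟨g, mem_inf.2 ⟨hg, B.mem_normalizer_of_map hg hp hq hga hgb⟩, hga, hgb⟩

theorem fix_smul_centralizer {k : G} (hk : k ∈ centralizer ({t} : Set G)) {p : Ω} (hp : p ∈ (fix {t} : Set Ω)) :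
    k • p ∈ (fix {t} : Set Ω) := by
  rw [mem_fix_singleton] at hp ⊢
  rw [← mul_smul, ← mem_centralizer_singleton_iff.1 hk, mul_smul, hp]

theorem fix_smul_normalizer (B : Base G a b t v) {k : G} (hk : k ∈ normalizer (fourAt G a b t : Set G)) {p : Ω}
    (hp : p ∈ (fix {t, v} : Set Ω)) : k • p ∈ (fix {t, v} : Set Ω) := by
  have key : ∀ x ∈ fourAt G a b t, x • k • p = k • p := fun x hx => by
    have h := B.four_fix hp ((mem_normalizer_iff.1 hk (k⁻¹ * x * k)).2 (by simpa [mul_assoc] using hx))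
    rwa [mul_smul, mul_smul, inv_smul_eq_iff] at h
  exact mem_fix_pair.2 ⟨key t B.t_mem_four, key v B.v_mem_four⟩

theorem a_mem_fix (B : Base G a b t v) : a ∈ (fix {t} : Set Ω) := mem_fix_singleton.2 (mem_pairStab.1 B.htH).1
theorem b_mem_fix (B : Base G a b t v) : b ∈ (fix {t} : Set Ω) := mem_fix_singleton.2 (mem_pairStab.1 B.htH).2
theorem a_mem_fix₂ (B : Base G a b t v) : a ∈ (fix {t, v} : Set Ω) :=
  mem_fix_pair.2 ⟨(mem_pairStab.1 B.htH).1, (mem_pairStab.1 B.hvH).1⟩
theorem b_mem_fix₂ (B : Base G a b t v) : b ∈ (fix {t, v} : Set Ω) :=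
  mem_fix_pair.2 ⟨(mem_pairStab.1 B.htH).2, (mem_pairStab.1 B.hvH).2⟩

theorem four_le_normalizer (B : Base G a b t v) :
    fourAt G a b t ≤ centralizer ({t} : Set G) ⊓ normalizer (fourAt G a b t : Set G) :=
  le_inf inf_le_right le_normalizer

/-- The orders. -/
theorem cards (B : Base G a b t v) :
    Nat.card G = 60 * (Nat.card Ω * (Nat.card Ω - 1)) ∧
    Nat.card (stabilizer G a) = 60 * (Nat.card Ω - 1) ∧
    Nat.card (centralizer ({t} : Set G)) = 4 * ((fix {t} : Set Ω).ncard * ((fix {t} : Set Ω).ncard - 1)) ∧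
    Nat.card ↥(centralizer ({t} : Set G) ⊓ stabilizer G a) = 4 * ((fix {t} : Set Ω).ncard - 1) ∧
    Nat.card ↥(centralizer ({t} : Set G) ⊓ normalizer (fourAt G a b t : Set G) ⊓ stabilizer G a) =
      4 * ((fix {t, v} : Set Ω).ncard - 1) := by
  obtain ⟨h1, h2⟩ := card_of_pairs B.toCtx.ne (⊤ : Subgroup G) Set.univ (Set.mem_univ a) (Set.mem_univ b)
    (fun _ _ _ _ => Set.mem_univ _) fun p _ q _ hne => by
      obtain ⟨g, hg⟩ := B.toCtx.two hne B.toCtx.ne
      exact ⟨g, mem_top g, hg⟩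
  rw [top_inf_eq, B.toCtx.card_pairStab, Set.ncard_univ, card_top] at h1
  rw [top_inf_eq, top_inf_eq, B.toCtx.card_pairStab, Set.ncard_univ] at h2
  obtain ⟨h3, h4⟩ := card_of_pairs B.toCtx.ne (centralizer ({t} : Set G)) (fix {t}) B.a_mem_fix B.b_mem_fix
    (fun k hk p hp => fix_smul_centralizer hk hp) fun p hp q hq hne =>
      B.exists_centralizer_map hne (mem_fix_singleton.1 hp) (mem_fix_singleton.1 hq)
  rw [inf_comm (centralizer ({t} : Set G)) (pairStab G a b), B.card_four] at h3 h4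
  obtain ⟨-, h8⟩ := card_of_pairs B.toCtx.ne (centralizer ({t} : Set G) ⊓ normalizer (fourAt G a b t : Set G))
    (fix {t, v}) B.a_mem_fix₂ B.b_mem_fix₂ (fun k hk p hp => B.fix_smul_normalizer (mem_inf.1 hk).2 hp)
    fun p hp q hq hne => B.exists_normalizer_map hne hp hq
  have e : centralizer ({t} : Set G) ⊓ normalizer (fourAt G a b t : Set G) ⊓ pairStab G a b = fourAt G a b t :=
    le_antisymm (fun x hx => mem_inf.2 ⟨(mem_inf.1 hx).2, (mem_inf.1 (mem_inf.1 hx).1).1⟩)
      (le_inf B.four_le_normalizer inf_le_left)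
  rw [e, B.card_four] at h8
  exact ⟨h1, h2, h3, h4, h8⟩

theorem two_le_fix₂ (B : Base G a b t v) : 2 ≤ (fix {t, v} : Set Ω).ncard := by
  rw [← Set.ncard_pair B.toCtx.ne]
  exact Set.ncard_le_ncard (Set.insert_subset B.a_mem_fix₂ (Set.singleton_subset_iff.2 B.b_mem_fix₂))

theorem fix₂_le (B : Base G a b t v) : (fix {t, v} : Set Ω).ncard ≤ (fix {t} : Set Ω).ncard :=
  Set.ncard_le_ncard fun _ hp => mem_fix_singleton.2 (mem_fix_pair.1 hp).1

theorem fix_lt (B : Base G a b t v) : (fix {t} : Set Ω).ncard < Nat.card Ω := by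
  rw [← Set.ncard_univ]
  refine Set.ncard_lt_ncard (Set.ssubset_univ_iff.2 fun h => Invol.ne_one B.ht (eq_one_of_fix_univ (Ω := Ω) fun p => ?_))
  exact mem_fix_singleton.1 (h ▸ Set.mem_univ p)

theorem isT_t (B : Base G a b t v) : IsT G Ω t :=
  ⟨B.ht, a, b, B.toCtx.ne, mem_fix_singleton.1 B.a_mem_fix, mem_fix_singleton.1 B.b_mem_fix⟩

theorem exists_conj_t (B : Base G a b t v) {g : G} (hg : IsT G Ω g) : ∃ k : G, k * t * k⁻¹ = g := by
  obtain ⟨ho, p, q, hne, hp, hq⟩ := hg
  obtain ⟨k, hka, hkb⟩ := B.toCtx.two hne B.toCtx.ne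
  have hm : k * g * k⁻¹ ∈ pairStab G a b :=
    mem_pairStab.2 ⟨by rw [← hka, conj_smul, hp], by rw [← hkb, conj_smul, hq]⟩
  obtain ⟨h, -, hh⟩ := B.toCtx.exists_conj B.htH hm B.ht (by rw [Invol.orderOf_conj_eq, ho])
  refine ⟨k⁻¹ * h, ?_⟩
  rw [show k⁻¹ * h * t * (k⁻¹ * h)⁻¹ = k⁻¹ * (h * t * h⁻¹) * k by group, hh]
  group

theorem fix_isT (B : Base G a b t v) {g : G} (hg : IsT G Ω g) :
    (fix {g} : Set Ω).ncard = (fix {t} : Set Ω).ncard := by
  obtain ⟨k, rfl⟩ := B.exists_conj_t hg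
  rw [fix_conj_singleton, Set.ncard_image_of_injective _ (MulAction.injective k)]

theorem isT_pairStab (B : Base G a b t v) :
    {u | IsT G Ω u ∧ (u • a = a ∧ u • b = b)}.ncard = 15 := by
  have e : {u | IsT G Ω u ∧ (u • a = a ∧ u • b = b)} = {x : G | x ∈ pairStab G a b ∧ x * x = 1} \ {1} := by
    ext u
    constructor
    · rintro ⟨hu, hua, hub⟩
      exact ⟨⟨mem_pairStab.2 ⟨hua, hub⟩, Invol.inv_mul_self hu.1⟩, Invol.ne_one hu.1⟩
    · rintro ⟨⟨hu, hu2⟩, hu1⟩
      obtain ⟨hua, hub⟩ := mem_pairStab.1 hu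
      exact ⟨⟨Invol.orderOf_eq_two_of hu1 hu2, a, b, B.toCtx.ne, hua, hub⟩, hua, hub⟩
  have h1 : (1 : G) ∈ {x : G | x ∈ pairStab G a b ∧ x * x = 1} := ⟨one_mem _, one_mul 1⟩
  rw [e, Set.ncard_diff_singleton_of_mem h1, B.toCtx.ncard_sq_one]

/-- The first counting equation. -/
theorem count_eq (B : Base G a b t v) :
    15 * (Nat.card Ω - (fix {t} : Set Ω).ncard) =
      {u | IsT G Ω u ∧ Swaps u a b}.ncard * ((fix {t} : Set Ω).ncard * ((fix {t} : Set Ω).ncard - 1)) := by
  set i := (fix {t} : Set Ω).ncard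
  have htr : ∀ p ∈ (Set.univ : Set Ω), ∀ q ∈ (Set.univ : Set Ω), p ≠ q →
      ∃ k ∈ (⊤ : Subgroup G), k • p = a ∧ k • q = b := fun p _ q _ hne => by
    obtain ⟨g, hg⟩ := B.toCtx.two hne B.toCtx.ne
    exact ⟨g, mem_top g, hg⟩
  have hF := pair_count B.toCtx.ne ⊤ Set.univ (Set.mem_univ a) (Set.mem_univ b) (fun _ _ _ _ => Set.mem_univ _) htr
    {u | IsT G Ω u} (fun k _ u hu => IsT.conj hu k) (fun u p q => u • p = p ∧ u • q = q)
    (fun k u p q h => ⟨by rw [conj_smul, h.1], by rw [conj_smul, h.2]⟩) (i * (i - 1)) fun u hu => by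
      rw [card_fix_pairs, Set.univ_inter, B.fix_isT hu]
  have hS := pair_count B.toCtx.ne ⊤ Set.univ (Set.mem_univ a) (Set.mem_univ b) (fun _ _ _ _ => Set.mem_univ _) htr
    {u | IsT G Ω u} (fun k _ u hu => IsT.conj hu k) (fun u p q => Swaps u p q)
    (fun k u p q h => h.conj) (Nat.card Ω - i) fun u hu => by
      show {x : Ω × Ω | x.1 ∈ Set.univ ∧ x.2 ∈ Set.univ ∧ x.1 ≠ x.2 ∧ (u • x.1 = x.2 ∧ u • x.2 = x.1)}.ncard = _
      rw [card_swap_pairs _ (smul_smul_of_sq (Invol.inv_mul_self hu.1)) (fun _ _ => Set.mem_univ _),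
        Set.univ_inter, B.fix_isT hu, Set.ncard_univ]
  simp only [Set.mem_setOf_eq] at hF hS
  rw [B.isT_pairStab, Set.ncard_univ] at hF
  rw [Set.ncard_univ] at hS
  have hT : 0 < {u | IsT G Ω u}.ncard := (Set.ncard_pos (Set.toFinite _)).2 ⟨t, B.isT_t⟩
  refine Nat.eq_of_mul_eq_mul_left hT ?_
  rw [mul_left_comm, hS, mul_left_comm {u | IsT G Ω u}.ncard, hF]
  ring

/-- Elements of `C(t)` forming with `t` a four group fixing two points. -/
def Partner (G : Type u) [Group G] (Ω : Type w) [MulAction G Ω] (t u : G) : Prop :=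
  orderOf u = 2 ∧ Commute t u ∧ u ≠ t ∧ ∃ p q : Ω, p ≠ q ∧ (t • p = p ∧ t • q = q) ∧ u • p = p ∧ u • q = q

theorem partner_conj {k u : G} (hk : k ∈ centralizer ({t} : Set G)) (hu : Partner G Ω t u) :
    Partner G Ω t (k * u * k⁻¹) := by
  obtain ⟨ho, hc, hne, p, q, hpq, ⟨h1, h2⟩, h3, h4⟩ := hu
  refine ⟨by rw [Invol.orderOf_conj_eq, ho], ?_, fun h => hne ?_, k • p, k • q,
    fun h => hpq (MulAction.injective k h), ⟨?_, ?_⟩, by rw [conj_smul, h3], by rw [conj_smul, h4]⟩
  · have := hc.map (MulAut.conj k)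
    simpa [conj_t_eq hk] using this
  · exact mul_left_cancel (mul_right_cancel (h.trans (conj_t_eq hk).symm))
  · rw [← conj_t_eq hk, conj_smul, h1]
  · rw [← conj_t_eq hk, conj_smul, h2]

theorem partner_pairStab (B : Base G a b t v) :
    {u | Partner G Ω t u ∧ (u • a = a ∧ u • b = b)} = {v, t * v} := by
  ext u
  constructor
  · rintro ⟨⟨ho, hc, hne, -⟩, hua, hub⟩
    rcases B.four_cases (mem_inf.2 ⟨mem_pairStab.2 ⟨hua, hub⟩, mem_centralizer_singleton_iff.2 hc.eq.symm⟩ :
        u ∈ fourAt G a b t) with h | h | h | h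
    · exact absurd h (Invol.ne_one ho)
    · exact absurd h hne
    · exact Or.inl h
    · exact Or.inr h
  · intro h
    have key : ∀ x ∈ fourAt G a b t, x ≠ 1 → x ≠ t → x ∈ {u | Partner G Ω t u ∧ (u • a = a ∧ u • b = b)} :=
      fun x hx hx1 hxt => by
        obtain ⟨hxa, hxb⟩ := mem_pairStab.1 (mem_inf.1 hx).1
        exact ⟨⟨Invol.orderOf_eq_two_of hx1 (B.four_sq hx), (mem_centralizer_singleton_iff.1 (mem_inf.1 hx).2).symm,
          hxt, a, b, B.toCtx.ne, mem_pairStab.1 B.htH, hxa, hxb⟩, hxa, hxb⟩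
    rcases h with rfl | rfl
    · exact key _ B.v_mem_four (Invol.ne_one B.hv) (Ne.symm B.htv)
    · exact key _ (mul_mem B.t_mem_four B.v_mem_four) B.tv_ne_one fun h => Invol.ne_one B.hv (mul_eq_left.1 h)

/-- The second counting equation. -/
theorem count₂_eq (B : Base G a b t v) :
    2 * ((fix {t} : Set Ω).ncard - (fix {t, v} : Set Ω).ncard) =
      {u | Partner G Ω t u ∧ Swaps u a b}.ncard *
        ((fix {t, v} : Set Ω).ncard * ((fix {t, v} : Set Ω).ncard - 1)) := by
  set i := (fix {t} : Set Ω).ncard with hi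
  set j := (fix {t, v} : Set Ω).ncard
  have hinter : ∀ u : G, (fix {t} : Set Ω) ∩ fix {u} = fix {t, u} := fun u => by
    ext p; simp [mem_fix_singleton, mem_fix_pair]
  have hj : ∀ u, Partner G Ω t u → (fix {t, u} : Set Ω).ncard = j := by
    intro u hu
    obtain ⟨ho, -, hne, p, q, hpq, ⟨h1, h2⟩, h3, h4⟩ := id hu
    obtain ⟨k, hk, hka, hkb⟩ := B.exists_centralizer_map hpq h1 h2
    have hm : k * u * k⁻¹ ∈ {w | Partner G Ω t w ∧ (w • a = a ∧ w • b = b)} :=
      ⟨partner_conj hk hu, by rw [← hka, conj_smul, h3], by rw [← hkb, conj_smul, h4]⟩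
    rw [B.partner_pairStab] at hm
    have hc : (fix {t, k * u * k⁻¹} : Set Ω).ncard = (fix {t, u} : Set Ω).ncard := by
      conv_lhs => rw [← conj_t_eq hk]
      rw [fix_conj_pair, Set.ncard_image_of_injective _ (MulAction.injective k)]
    rw [← hc]
    rcases hm with h | h
    · rw [h]
    · rw [Set.mem_singleton_iff.1 h, fix_pair_mul]
  have htr : ∀ p ∈ (fix {t} : Set Ω), ∀ q ∈ (fix {t} : Set Ω), p ≠ q →
      ∃ k ∈ centralizer ({t} : Set G), k • p = a ∧ k • q = b := fun p hp q hq hne =>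
    B.exists_centralizer_map hne (mem_fix_singleton.1 hp) (mem_fix_singleton.1 hq)
  have hF := pair_count B.toCtx.ne (centralizer ({t} : Set G)) (fix {t}) B.a_mem_fix B.b_mem_fix
    (fun k hk p hp => fix_smul_centralizer hk hp) htr
    {u | Partner G Ω t u} (fun k hk u hu => partner_conj hk hu) (fun u p q => u • p = p ∧ u • q = q)
    (fun k u p q h => ⟨by rw [conj_smul, h.1], by rw [conj_smul, h.2]⟩) (j * (j - 1)) fun u hu => by
      rw [card_fix_pairs, hinter, hj u hu]
  have hS := pair_count B.toCtx.ne (centralizer ({t} : Set G)) (fix {t}) B.a_mem_fix B.b_mem_fix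
    (fun k hk p hp => fix_smul_centralizer hk hp) htr
    {u | Partner G Ω t u} (fun k hk u hu => partner_conj hk hu) (fun u p q => Swaps u p q)
    (fun k u p q h => h.conj) (i - j) fun u hu => by
      show {x : Ω × Ω | x.1 ∈ fix {t} ∧ x.2 ∈ fix {t} ∧ x.1 ≠ x.2 ∧ (u • x.1 = x.2 ∧ u • x.2 = x.1)}.ncard = _
      rw [card_swap_pairs _ (smul_smul_of_sq (Invol.inv_mul_self hu.1))
        (fun p hp => fix_smul_centralizer (mem_centralizer_singleton_iff.2 hu.2.1.eq.symm) hp),
        hinter, hj u hu]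
  simp only [Set.mem_setOf_eq] at hF hS
  rw [B.partner_pairStab, Set.ncard_pair fun h => Invol.ne_one B.ht (mul_eq_right.1 h.symm), ← hi] at hF
  rw [← hi] at hS
  have hT : 0 < {u | Partner G Ω t u}.ncard := by
    have : v ∈ {u | Partner G Ω t u ∧ (u • a = a ∧ u • b = b)} := by rw [B.partner_pairStab]; exact Or.inl rfl
    exact (Set.ncard_pos (Set.toFinite _)).2 ⟨v, this.1⟩
  refine Nat.eq_of_mul_eq_mul_left hT ?_
  rw [mul_left_comm, hS, mul_left_comm {u | Partner G Ω t u}.ncard, hF]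
  ring

end Base

end Cfsg.Lib.A5Stab
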