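import Cfsg.Agent.Lib.A5Stab.Swap

/-!
# The possible numbers of exchanging involutions
-/

set_option autoImplicit false
set_option linter.style.haveILetI false
set_option linter.unusedSectionVars false

namespace Cfsg.Lib.A5Stab

open Subgroup MulAction
open Cfsg.Lib.A4Stab (pairStab mem_pairStab conj_smul fix mem_fix_singleton mem_fix_pair Swaps IsT)

universe u w

variable {G : Type u} [Group G] [Finite G] {Ω : Type w} [Finite Ω] [MulAction G Ω] [FaithfulSMul G Ω]

namespace Base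

variable {a b : Ω} {t v : G}

theorem swaps_ne_one (B : Base G a b t v) {g : G} (h : Swaps g a b) : g ≠ 1 := fun e =>
  B.not_swaps_of_mem (e ▸ one_mem (pairStab G a b)) h

theorem swap_ncard_pos (B : Base G a b t v) : 0 < {g | IsT G Ω g ∧ Swaps g a b}.ncard := by
  refine Nat.pos_of_ne_zero fun h => ?_
  have := B.count_eq
  have := B.fix_lt
  rw [h, zero_mul] at *
  omega

/-- Involutions exchanging the points, when one of them is central. -/
theorem central_swap_invol (B : Base G a b t v) {z g : G} (hz : Central G a b z) :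
    (orderOf g = 2 ∧ Swaps g a b) ↔ ∃ h ∈ pairStab G a b, h * h = 1 ∧ g = z * h := by
  constructor
  · rintro ⟨hgo, hgs⟩
    have hh : z * g ∈ pairStab G a b := swaps_mul_mem hz.swaps hgs
    have hzz := Invol.inv_mul_self hz.ord
    have hg : g = z * (z * g) := by rw [← mul_assoc, hzz, one_mul]
    refine ⟨z * g, hh, ?_, hg⟩
    have h2 := Invol.inv_mul_self hgo
    rw [hg, (hz.comm _ hh).symm.mul_mul_mul_comm, hzz, one_mul] at h2
    exact h2
  · rintro ⟨h, hh, h2, rfl⟩
    have hs := swaps_mul_pairStab hz.swaps hh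
    exact ⟨Invol.orderOf_eq_two_of (B.swaps_ne_one hs)
      (by rw [(hz.comm _ hh).symm.mul_mul_mul_comm, Invol.inv_mul_self hz.ord, h2, one_mul]), hs⟩

theorem isT_mul_invol (B : Base G a b t v) {z h : G} (hz : Central G a b z) (hh : h ∈ pairStab G a b)
    (h2 : h * h = 1) (h1 : h ≠ 1) : IsT G Ω (z * h) ↔ IsT G Ω (z * t) := by
  obtain ⟨k, hk, hke⟩ := B.toCtx.exists_conj B.htH hh B.ht (Invol.orderOf_eq_two_of h1 h2)
  have e : k * (z * t) * k⁻¹ = z * h := by
    rw [← hke, ← mul_assoc k z t, ← (hz.comm k hk).eq]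
    group
  constructor
  · intro hT
    have := hT.conj k⁻¹
    rwa [show k⁻¹ * (z * h) * k⁻¹⁻¹ = z * t by rw [← e]; group] at this
  · intro hT
    rw [← e]
    exact hT.conj k

/-- The number of class-`T` involutions exchanging `a`, `b` in the central shape. -/
theorem central_beta (B : Base G a b t v) {z : G} (hz : Central G a b z) :
    (IsT G Ω z ∧ IsT G Ω (z * t) ∧ {g | IsT G Ω g ∧ Swaps g a b}.ncard = 16) ∨
    (IsT G Ω z ∧ ¬ IsT G Ω (z * t) ∧ {g | IsT G Ω g ∧ Swaps g a b}.ncard = 1) ∨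
    (¬ IsT G Ω z ∧ IsT G Ω (z * t) ∧ {g | IsT G Ω g ∧ Swaps g a b}.ncard = 15) := by
  set Y := {x : G | x ∈ pairStab G a b ∧ x * x = 1} with hY
  have h16 : Y.ncard = 16 := B.toCtx.ncard_sq_one
  have hset : {g | IsT G Ω g ∧ Swaps g a b} = (z * ·) '' {h | h ∈ Y ∧ IsT G Ω (z * h)} := by
    ext g
    constructor
    · rintro ⟨hT, hs⟩
      obtain ⟨h, hh, h2, rfl⟩ := (B.central_swap_invol hz).1 ⟨hT.1, hs⟩
      exact ⟨h, ⟨⟨hh, h2⟩, hT⟩, rfl⟩
    · rintro ⟨h, ⟨⟨hh, h2⟩, hT⟩, rfl⟩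
      exact ⟨hT, swaps_mul_pairStab hz.swaps hh⟩
  have hpos := B.swap_ncard_pos
  rw [hset, Set.ncard_image_of_injective _ (mul_right_injective z)] at hpos ⊢
  by_cases h0 : IsT G Ω z <;> by_cases h1 : IsT G Ω (z * t)
  · refine Or.inl ⟨h0, h1, ?_⟩
    rw [show {h | h ∈ Y ∧ IsT G Ω (z * h)} = Y from Set.ext fun h => ⟨And.left, fun hh => ⟨hh, ?_⟩⟩, h16]
    rcases eq_or_ne h 1 with e | e
    · rw [e, mul_one]; exact h0
    · exact (B.isT_mul_invol hz hh.1 hh.2 e).2 h1
  · refine Or.inr (Or.inl ⟨h0, h1, ?_⟩)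
    rw [show {h | h ∈ Y ∧ IsT G Ω (z * h)} = {1} from Set.ext fun h => ⟨fun hh => ?_, fun hh => ?_⟩, Set.ncard_singleton]
    · exact Set.mem_singleton_iff.2 (by_contra fun e => h1 ((B.isT_mul_invol hz hh.1.1 hh.1.2 e).1 hh.2))
    · rw [Set.mem_singleton_iff.1 hh]
      exact ⟨⟨one_mem _, one_mul 1⟩, by rwa [mul_one]⟩
  · refine Or.inr (Or.inr ⟨h0, h1, ?_⟩)
    have h1Y : (1 : G) ∈ Y := ⟨one_mem _, one_mul 1⟩
    rw [show {h | h ∈ Y ∧ IsT G Ω (z * h)} = Y \ {1} from Set.ext fun h => ⟨fun hh => ⟨hh.1, fun e => h0 ?_⟩,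
      fun hh => ⟨hh.1, (B.isT_mul_invol hz hh.1.1 hh.1.2 fun e => hh.2 (Set.mem_singleton_iff.2 e)).2 h1⟩⟩,
      Set.ncard_diff_singleton_of_mem h1Y, h16]
    have := hh.2
    rwa [Set.mem_singleton_iff.1 e, mul_one] at this
  · exfalso
    obtain ⟨h, hh, hT⟩ := (Set.ncard_pos (Set.toFinite _)).1 hpos
    rcases eq_or_ne h 1 with e | e
    · rw [e, mul_one] at hT; exact h0 hT
    · exact h1 ((B.isT_mul_invol hz hh.1 hh.2 e).1 hT)

/-- Involutions exchanging the points in the symmetric shape. -/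
theorem outer_beta (B : Base G a b t v) {u : G} (hu : Outer G a b t v u) :
    (∀ g, orderOf g = 2 → Swaps g a b → IsT G Ω g) ∧ {g | IsT G Ω g ∧ Swaps g a b}.ncard = 10 := by
  obtain ⟨g0, hg0, hs0⟩ := (Set.ncard_pos (Set.toFinite _)).1 B.swap_ncard_pos
  obtain ⟨h0, -, he0⟩ := hu.all g0 hg0.1 hs0
  have huT : IsT G Ω u := by
    have := hg0.conj h0⁻¹
    rwa [show h0⁻¹ * g0 * h0⁻¹⁻¹ = u by rw [← he0]; group] at this
  have hall : ∀ g, orderOf g = 2 → Swaps g a b → IsT G Ω g := fun g hg hs => by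
    obtain ⟨h, -, he⟩ := hu.all g hg hs
    exact he ▸ huT.conj h
  refine ⟨hall, ?_⟩
  rw [← hu.count]
  exact congrArg Set.ncard (Set.ext fun g => ⟨fun h => ⟨h.1.1, h.2⟩, fun h => ⟨hall g h.1 h.2, h.2⟩⟩)

/-- Elements exchanging the points and commuting with `t` differ by elements of the four group. -/
theorem swap_mul_four (B : Base G a b t v) {u g : G} (hu : orderOf u = 2) (hus : Swaps u a b) (huc : Commute u t)
    (hgs : Swaps g a b) (hgc : Commute g t) : ∃ y ∈ fourAt G a b t, g = u * y :=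
  ⟨u * g, mem_inf.2 ⟨swaps_mul_mem hus hgs, mem_centralizer_singleton_iff.2 (huc.mul_left hgc).eq⟩,
    by rw [← mul_assoc, Invol.inv_mul_self hu, one_mul]⟩

theorem partner_mul_t (B : Base G a b t v) {u : G} (hu : Base.Partner G Ω t u) : Base.Partner G Ω t (u * t) := by
  obtain ⟨ho, hc, hne, p, q, hpq, ⟨h1, h2⟩, h3, h4⟩ := hu
  refine ⟨Invol.orderOf_eq_two_of (fun e => hne ?_) ?_, hc.mul_right (Commute.refl t),
    fun e => Invol.ne_one ho (mul_eq_right.1 e), p, q, hpq, ⟨h1, h2⟩, by rw [mul_smul, h1, h3], by rw [mul_smul, h2, h4]⟩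
  · exact (mul_eq_one_iff_eq_inv.1 e).trans (Invol.inv_eq_self B.ht)
  · rw [hc.mul_mul_mul_comm, Invol.inv_mul_self ho, B.htt, one_mul]

theorem partner_mul_t_iff (B : Base G a b t v) {u : G} : Base.Partner G Ω t (u * t) ↔ Base.Partner G Ω t u := by
  refine ⟨fun h => ?_, B.partner_mul_t⟩
  have := B.partner_mul_t h
  rwa [mul_assoc, B.htt, mul_one] at this

/-- The possible numbers of partners exchanging `a`, `b` in the central shape. -/
theorem central_beta₂ (B : Base G a b t v) {z : G} (hz : Central G a b z) :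
    {u | Base.Partner G Ω t u ∧ Swaps u a b}.ncard = 0 ∨ {u | Base.Partner G Ω t u ∧ Swaps u a b}.ncard = 2 ∨
      {u | Base.Partner G Ω t u ∧ Swaps u a b}.ncard = 4 := by
  have hcz : Commute z t := hz.comm t B.htH
  have hne1 : z ≠ z * t := fun h => Invol.ne_one B.ht (mul_eq_left.1 h.symm)
  have hne2 : z * v ≠ z * v * t := fun h => Invol.ne_one B.ht (mul_eq_left.1 h.symm)
  have hzt : z * (t * v) = z * v * t := by rw [B.commute_tv.eq, mul_assoc]
  have hmem : ∀ g, (Base.Partner G Ω t g ∧ Swaps g a b) ↔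
      Base.Partner G Ω t g ∧ (g = z ∨ g = z * t ∨ g = z * v ∨ g = z * v * t) := by
    refine fun g => and_congr_right fun hg => ⟨fun hgs => ?_, ?_⟩
    · obtain ⟨y, hy, rfl⟩ := B.swap_mul_four hz.ord hz.swaps hcz hgs hg.2.1.symm
      rcases B.four_cases hy with rfl | rfl | rfl | rfl
      · exact Or.inl (mul_one z)
      · exact Or.inr (Or.inl rfl)
      · exact Or.inr (Or.inr (Or.inl rfl))
      · exact Or.inr (Or.inr (Or.inr hzt))
    · rintro (rfl | rfl | rfl | rfl)
      · exact hz.swaps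
      · exact swaps_mul_pairStab hz.swaps B.htH
      · exact swaps_mul_pairStab hz.swaps B.hvH
      · rw [← hzt]; exact swaps_mul_pairStab hz.swaps (mul_mem B.htH B.hvH)
  by_cases h1 : Base.Partner G Ω t z <;> by_cases h2 : Base.Partner G Ω t (z * v)
  · refine Or.inr (Or.inr ?_)
    rw [show {u | Base.Partner G Ω t u ∧ Swaps u a b} = {z, z * t, z * v, z * v * t} from Set.ext fun g => by
      rw [Set.mem_setOf_eq, hmem]
      refine ⟨fun h => h.2, fun h => ⟨?_, h⟩⟩
      rcases h with rfl | rfl | rfl | rfl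
      exacts [h1, B.partner_mul_t_iff.2 h1, h2, B.partner_mul_t_iff.2 h2]]
    have hzv : ∀ x y : G, z * x = z * y → x = y := fun x y h => mul_left_cancel h
    rw [Set.ncard_insert_of_notMem, Set.ncard_insert_of_notMem, Set.ncard_pair hne2]
    · rintro (h | h)
      · exact B.htv (hzv _ _ h)
      · exact Invol.ne_one B.hv (mul_eq_left.1 (hzv _ _ (h.trans hzt.symm)).symm)
    · rintro (h | h | h)
      · exact hne1 h
      · exact Invol.ne_one B.hv (mul_eq_left.1 h.symm)
      · exact B.tv_ne_one (mul_eq_left.1 (h.trans hzt.symm).symm)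
  · refine Or.inr (Or.inl ?_)
    rw [show {u | Base.Partner G Ω t u ∧ Swaps u a b} = {z, z * t} from Set.ext fun g => by
      rw [Set.mem_setOf_eq, hmem]
      refine ⟨?_, ?_⟩
      · rintro ⟨hg, rfl | rfl | rfl | rfl⟩
        exacts [Or.inl rfl, Or.inr rfl, absurd hg h2, absurd (B.partner_mul_t_iff.1 hg) h2]
      · rintro (rfl | rfl)
        exacts [⟨h1, Or.inl rfl⟩, ⟨B.partner_mul_t_iff.2 h1, Or.inr (Or.inl rfl)⟩], Set.ncard_pair hne1]
  · refine Or.inr (Or.inl ?_)
    rw [show {u | Base.Partner G Ω t u ∧ Swaps u a b} = {z * v, z * v * t} from Set.ext fun g => by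
      rw [Set.mem_setOf_eq, hmem]
      refine ⟨?_, ?_⟩
      · rintro ⟨hg, rfl | rfl | rfl | rfl⟩
        exacts [absurd hg h1, absurd (B.partner_mul_t_iff.1 hg) h1, Or.inl rfl, Or.inr rfl]
      · rintro (rfl | rfl)
        exacts [⟨h2, Or.inr (Or.inr (Or.inl rfl))⟩, ⟨B.partner_mul_t_iff.2 h2, Or.inr (Or.inr (Or.inr rfl))⟩],
      Set.ncard_pair hne2]
  · refine Or.inl ((Set.ncard_eq_zero (Set.toFinite _)).2 (Set.eq_empty_iff_forall_notMem.2 fun g hg => ?_))
    rw [Set.mem_setOf_eq, hmem] at hg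
    rcases hg with ⟨hg, rfl | rfl | rfl | rfl⟩
    exacts [h1 hg, h1 (B.partner_mul_t_iff.1 hg), h2 hg, h2 (B.partner_mul_t_iff.1 hg)]

/-- The products `u * v` have square `t` in the symmetric shape. -/
theorem outer_sq (B : Base G a b t v) {u : G} (hu : Outer G a b t v u) :
    u * v * (u * v) = t ∧ u * (t * v) * (u * (t * v)) = t := by
  have huu := Invol.inv_mul_self hu.ord
  have h : u * v * u = t * v := by
    have hm := hu.moves
    rwa [Invol.inv_eq_self hu.ord] at hm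
  have h1 : u * v * (u * v) = t := by
    rw [show u * v * (u * v) = u * v * u * v by group, h, mul_assoc, B.hvv, mul_one]
  refine ⟨h1, ?_⟩
  rw [← mul_assoc u t v, hu.comm.eq, show t * u * v * (t * u * v) = t * (u * v * t) * (u * v) by group,
    show u * v * t = t * (u * v) from ((hu.comm.mul_left B.commute_tv.symm)).eq,
    show t * (t * (u * v)) * (u * v) = t * t * (u * v * (u * v)) by group, B.htt, one_mul, h1]

/-- The possible numbers of partners exchanging `a`, `b` in the symmetric shape. -/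
theorem outer_beta₂ (B : Base G a b t v) {u : G} (hu : Outer G a b t v u) :
    {g | Base.Partner G Ω t g ∧ Swaps g a b}.ncard = 0 ∨ {g | Base.Partner G Ω t g ∧ Swaps g a b}.ncard = 2 := by
  obtain ⟨h1, h2⟩ := B.outer_sq hu
  have hmem : ∀ g, (Base.Partner G Ω t g ∧ Swaps g a b) → g = u ∨ g = u * t := by
    rintro g ⟨hg, hgs⟩
    obtain ⟨y, hy, rfl⟩ := B.swap_mul_four hu.ord hu.swaps hu.comm hgs hg.2.1.symm
    have hsq := Invol.inv_mul_self hg.1
    rcases B.four_cases hy with e | e | e | e <;> rw [e] at hsq ⊢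
    · exact Or.inl (mul_one u)
    · exact Or.inr rfl
    · exact absurd (h1.symm.trans hsq) (Invol.ne_one B.ht)
    · exact absurd (h2.symm.trans hsq) (Invol.ne_one B.ht)
  by_cases hp : Base.Partner G Ω t u
  · refine Or.inr ?_
    rw [show {g | Base.Partner G Ω t g ∧ Swaps g a b} = {u, u * t} from Set.ext fun g => ⟨hmem g, ?_⟩,
      Set.ncard_pair fun h => Invol.ne_one B.ht (mul_eq_left.1 h.symm)]
    rintro (rfl | rfl)
    exacts [⟨hp, hu.swaps⟩, ⟨B.partner_mul_t hp, swaps_mul_pairStab hu.swaps B.htH⟩]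
  · refine Or.inl ((Set.ncard_eq_zero (Set.toFinite _)).2 (Set.eq_empty_iff_forall_notMem.2 fun g hg => ?_))
    rcases hmem g hg with rfl | rfl
    exacts [hp hg.1, hp (B.partner_mul_t_iff.1 hg.1)]

/-- The possible numbers of fixed points of `t`. -/
theorem fix_cases (B : Base G a b t v) :
    ({u | Base.Partner G Ω t u ∧ Swaps u a b}.ncard = 0 → (fix {t} : Set Ω).ncard = (fix {t, v} : Set Ω).ncard) ∧
    ({u | Base.Partner G Ω t u ∧ Swaps u a b}.ncard = 2 →
      (fix {t} : Set Ω).ncard = (fix {t, v} : Set Ω).ncard * (fix {t, v} : Set Ω).ncard) ∧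
    ({u | Base.Partner G Ω t u ∧ Swaps u a b}.ncard = 4 →
      (fix {t} : Set Ω).ncard + (fix {t, v} : Set Ω).ncard =
        2 * ((fix {t, v} : Set Ω).ncard * (fix {t, v} : Set Ω).ncard)) := by
  have h := B.count₂_eq
  have hle := B.fix₂_le
  have h2 := B.two_le_fix₂
  set i := (fix {t} : Set Ω).ncard
  set j := (fix {t, v} : Set Ω).ncard
  have hj : j * (j - 1) + j = j * j := by
    rw [← Nat.mul_succ, Nat.succ_eq_add_one, Nat.sub_add_cancel (by omega : 1 ≤ j)]
  refine ⟨fun e => ?_, fun e => ?_, fun e => ?_⟩ <;> rw [e] at h <;> omega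

end Base

end Cfsg.Lib.A5Stab
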