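import Cfsg.Agent.Lib.A5Stab.Counts
import Cfsg.Agent.Lib.A5Stab.Arith
import Cfsg.Agent.Lib.A4Stab.Small

/-!
# Even degree
-/

set_option autoImplicit false
set_option linter.style.haveILetI false
set_option linter.unusedSectionVars false

namespace Cfsg.Lib.A5Stab

open Subgroup MulAction
open Cfsg.Lib.A4Stab (pairStab mem_pairStab conj_smul fix mem_fix_singleton mem_fix_pair Swaps IsT
  card_fix_mod_two false_sharply)

universe u w

variable {G : Type u} [Group G] [Finite G] {Ω : Type w} [Finite Ω] [MulAction G Ω] [FaithfulSMul G Ω]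

namespace Base

variable {a b : Ω} {t v : G}

/-- In even degree every involution of a point stabilizer fixes two points. -/
theorem isT_of_even (B : Base G a b t v) (hn : Nat.card Ω % 2 = 0) {g : G} (hga : g ∈ stabilizer G a)
    (hg : orderOf g = 2) : IsT G Ω g := by
  have h := card_fix_mod_two (Ω := Ω) hg
  rw [hn] at h
  have ha : a ∈ (fix {g} : Set Ω) := mem_fix_singleton.2 hga
  have hpos : 0 < (fix {g} : Set Ω).ncard := (Set.ncard_pos (Set.toFinite _)).2 ⟨a, ha⟩
  obtain ⟨p, q, hp, hq, hne⟩ := (Set.one_lt_ncard_iff (Set.toFinite _)).1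
    (show 1 < (fix {g} : Set Ω).ncard by omega)
  exact ⟨hg, p, q, hne, mem_fix_singleton.1 hp, mem_fix_singleton.1 hq⟩

theorem not_eight_dvd_of_even (B : Base G a b t v) (hn : Nat.card Ω % 2 = 0) :
    ¬ 8 ∣ Nat.card (stabilizer G a) := by
  obtain ⟨-, h2, -⟩ := B.cards
  have := B.fix_lt
  rw [h2]
  omega

theorem twoCycDih_of_even (B : Base G a b t v) (hn : Nat.card Ω % 2 = 0) : GW.TwoCycDih ↥(stabilizer G a) := by
  haveI : Fact (Nat.Prime 2) := ⟨Nat.prime_two⟩
  have h8 := B.not_eight_dvd_of_even hn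
  have hle : fourAt G a b t ≤ stabilizer G a := inf_le_left.trans inf_le_left
  set P := (fourAt G a b t).subgroupOf (stabilizer G a) with hP
  have hP4 : Nat.card P = 4 := by rw [Nat.card_congr (subgroupOfEquivOfLe hle).toEquiv, B.card_four]
  haveI : Nontrivial P := Finite.one_lt_card_iff_nontrivial.1 (by rw [hP4]; norm_num)
  haveI : IsKleinFour P := ⟨hP4, (Monoid.exponent_eq_prime_iff Nat.prime_two).2 fun x hx =>
    orderOf_eq_prime (Subtype.ext (Subtype.ext (by
      have := B.four_sq (show ((x : stabilizer G a) : G) ∈ fourAt G a b t from x.2)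
      simp only [SubmonoidClass.coe_pow, pow_two, OneMemClass.coe_one]
      exact this))) hx⟩
  obtain ⟨S, hS⟩ := (IsPGroup.of_card (n := 2) hP4 : IsPGroup 2 P).exists_le_sylow
  have e : (S : Subgroup _) = P := by
    refine (eq_of_le_of_card_ge hS ?_).symm
    obtain ⟨m, hm⟩ := S.2.exists_card_eq
    rw [hm, hP4]
    by_contra hlt
    refine h8 ((show 8 ∣ 2 ^ m from ?_).trans (hm ▸ card_subgroup_dvd_card _))
    refine pow_dvd_pow 2 (show 3 ≤ m from ?_)
    by_contra hc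
    exact hlt (Nat.pow_le_pow_right two_pos (show m ≤ 2 by omega))
  exact GW.TwoCycDih.of_sylow S (e ▸ GW.CycDih.of_dihedral (n := 2) (IsKleinFour.nonempty_mulEquiv (G₁ := ↥P)).some)

theorem card_pair_even (B : Base G a b t v) (hn : Nat.card Ω % 2 = 0) :
    Nat.card ↥(centralizer ({t, v} : Set G) ⊓ stabilizer G a) = 4 * ((fix {t, v} : Set Ω).ncard - 1) := by
  rcases B.card_pair_cases with h | h
  · exact h
  · exfalso
    refine B.not_eight_dvd_of_even hn ?_
    obtain ⟨k, hk⟩ := B.four_dvd_pair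
    obtain ⟨-, -, -, -, h8⟩ := B.cards
    refine dvd_trans ?_ (card_dvd_of_le
      (inf_le_right : centralizer ({t} : Set G) ⊓ normalizer (fourAt G a b t : Set G) ⊓ stabilizer G a ≤ stabilizer G a))
    rw [h8, ← h, hk]
    exact ⟨k, by ring⟩

/-- The number of common fixed points of the four group is a prime power. -/
theorem false_fix₂ (B : Base G a b t v) {p r₁ r₂ : ℕ} (hp : p.Prime) (hr₁ : r₁.Prime) (hr₂ : r₂.Prime)
    (hne : r₁ ≠ r₂) (h1p : r₁ ≠ p) (h2p : r₂ ≠ p) (hd₁ : r₁ ∣ p + 1) (hd₂ : r₂ ∣ p + 1)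
    (hj : (fix {t, v} : Set Ω).ncard = p + 1) : False := by
  classical
  set N := centralizer ({t} : Set G) ⊓ normalizer (fourAt G a b t : Set G) with hN
  have hinv : ∀ k ∈ N, ∀ q ∈ (fix {t, v} : Set Ω), k • q ∈ (fix {t, v} : Set Ω) :=
    fun k hk q hq => B.fix_smul_normalizer (mem_inf.1 hk).2 hq
  letI : MulAction ↥N ↥(fix {t, v} : Set Ω) :=
    { smul := fun k q => ⟨(k : G) • (q : Ω), hinv _ k.2 _ q.2⟩
      one_smul := fun q => Subtype.ext (one_smul G _)
      mul_smul := fun k l q => Subtype.ext (mul_smul (k : G) (l : G) (q : Ω)) }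
  refine false_sharply (MulAction.toPermHom ↥N ↥(fix {t, v} : Set Ω)).range hp hr₁ hr₂ hne h1p h2p hd₁ hd₂
    (by rw [Nat.card_coe_set_eq, hj]) ?_ ?_
  · intro x y x' y' hxy hxy'
    obtain ⟨k, hk, hk1, hk2⟩ := B.exists_normalizer_map (fun e => hxy (Subtype.ext e)) x.2 y.2
    obtain ⟨l, hl, hl1, hl2⟩ := B.exists_normalizer_map (fun e => hxy' (Subtype.ext e)) x'.2 y'.2
    refine ⟨MulAction.toPermHom ↥N _ ⟨l⁻¹ * k, mul_mem (inv_mem hl) hk⟩, ⟨_, rfl⟩, Subtype.ext ?_, Subtype.ext ?_⟩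
    · show (l⁻¹ * k) • (x : Ω) = x'
      rw [mul_smul, hk1, ← hl1, inv_smul_smul]
    · show (l⁻¹ * k) • (y : Ω) = y'
      rw [mul_smul, hk2, ← hl2, inv_smul_smul]
  · rintro _ ⟨k, rfl⟩ x y hxy hkx hky
    have hm : (k : G) ∈ fourAt G a b t := B.mem_four_of_fix (mem_inf.1 k.2).1 (fun e => hxy (Subtype.ext e)) x.2 y.2
      (congrArg Subtype.val hkx) (congrArg Subtype.val hky)
    exact Equiv.ext fun q => Subtype.ext (B.four_fix q.2 hm)

/-- Even degree: twelve points. -/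
theorem twelve_of_even (B : Base G a b t v) (hn : Nat.card Ω % 2 = 0) : Nat.card Ω = 12 := by
  have hi2 := card_fix_mod_two (Ω := Ω) B.ht
  rw [hn] at hi2
  have hall : ∀ g ∈ stabilizer G a, orderOf g = 2 → IsT G Ω g := fun g hg ho => B.isT_of_even hn hg ho
  have hj2 := B.two_le_fix₂
  have hji := B.fix₂_le
  obtain ⟨f0, f2, f4⟩ := B.fix_cases
  rcases B.local_stab (B.twoCycDih_of_even hn) hall with ⟨μ, s, D, hs, hD, hμ, h5, h6, h7⟩ | ⟨h5, -⟩
  swap
  · obtain ⟨-, h2, -⟩ := B.cards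
    exact absurd (h2 ▸ h5) (B.not_eight_dvd_of_even hn)
  rw [B.card_pair_even hn] at h5
  have hcount := B.count_eq
  set Q := (fix {t, v} : Set Ω).ncard with hQdef
  set k := (fix {t} : Set Ω).ncard with hkdef
  set N := {g | IsT G Ω g ∧ Swaps g a b}.ncard with hNdef
  have hQ : Q = D + 1 := by omega
  have hcases : (k = Q ∧ 0 < N) ∨ (k = Q * Q ∧ (N = 1 ∨ N = 10 ∨ N = 15 ∨ N = 16)) ∨
      (k + Q = 2 * (Q * Q) ∧ (N = 1 ∨ N = 15 ∨ N = 16)) := by
    rcases B.dichotomy with ⟨z, hz⟩ | ⟨u, hu⟩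
    · have hN' : N = 1 ∨ N = 15 ∨ N = 16 := by
        rcases B.central_beta hz with ⟨-, -, h⟩ | ⟨-, -, h⟩ | ⟨-, -, h⟩
        exacts [Or.inr (Or.inr h), Or.inl h, Or.inr (Or.inl h)]
      rcases B.central_beta₂ hz with h | h | h
      · exact Or.inl ⟨f0 h, by omega⟩
      · exact Or.inr (Or.inl ⟨f2 h, by omega⟩)
      · exact Or.inr (Or.inr ⟨f4 h, hN'⟩)
    · have hN' : N = 10 := (B.outer_beta hu).2
      rcases B.outer_beta₂ hu with h | h
      · exact Or.inl ⟨f0 h, by omega⟩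
      · exact Or.inr (Or.inl ⟨f2 h, by omega⟩)
  have hDpos : 0 < D := hD.pos
  rcases hcases with ⟨hk, hN⟩ | ⟨hk, hN⟩ | ⟨hk, hN⟩
  · exfalso
    have h1 : μ * s = 1 := by
      refine Nat.eq_of_mul_eq_mul_right hDpos ?_
      omega
    obtain rfl : μ = 1 := Nat.eq_one_of_dvd_one ⟨s, h1.symm⟩
    obtain rfl : s = 1 := by omega
    have : 2 ≤ N * k := by
      calc 2 ≤ k := by omega
        _ ≤ N * k := Nat.le_mul_of_pos_left k hN
    omega
  · have hx : Q + 1 = μ * s := by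
      refine Nat.eq_of_mul_eq_mul_right hDpos ?_
      rw [← h6, hk, hQ, show (D + 1) * (D + 1) = (D + 1 + 1) * D + 1 by ring, Nat.add_sub_cancel]
    have hQe : Q % 2 = 0 := by
      obtain ⟨j, rfl⟩ := hD
      omega
    rw [hk] at h7 hcount
    rcases arith_sq hμ hs hx hQe hj2 hN h7 with ⟨hN', hQ' | hQ'⟩ | ⟨hN', hQ'⟩
    · rw [hN', hQ'] at hcount
      omega
    · exact (B.false_fix₂ (p := 23) (r₁ := 2) (r₂ := 3) (by norm_num) Nat.prime_two Nat.prime_three
        (by norm_num) (by norm_num) (by norm_num) (by norm_num) (by norm_num) hQ').elim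
    · exact (B.false_fix₂ (p := 29) (r₁ := 2) (r₂ := 3) (by norm_num) Nat.prime_two Nat.prime_three
        (by norm_num) (by norm_num) (by norm_num) (by norm_num) (by norm_num) hQ').elim
  · exfalso
    have hx : 2 * Q + 1 = μ * s := by
      refine Nat.eq_of_mul_eq_mul_right hDpos ?_
      rw [← h6]
      have e : (2 * Q + 1) * D + 1 + Q = 2 * (Q * Q) := by rw [hQ]; ring
      omega
    exact arith_two hμ hs hx hj2 hk hN h7

end Base

end Cfsg.Lib.A5Stab
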