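import Mathlib

/-!
# Finite facts on `A₅` and `S₅`
-/

set_option autoImplicit false

namespace Cfsg.Lib.A5Stab

/-- The alternating group of degree five. -/
abbrev AltFive := alternatingGroup (Fin 5)

/-- The symmetric group of degree five. -/
abbrev SymFive := Equiv.Perm (Fin 5)

theorem conj_invol : ∀ x : AltFive, x * x = 1 → x ≠ 1 → ∀ y : AltFive, y * y = 1 → y ≠ 1 →
    ∃ g : AltFive, g * x * g⁻¹ = y := by decide +kernel

theorem sq_of_commute_invol : ∀ x y : AltFive, ¬ (x * x = 1 ∧ x ≠ 1 ∧ y * x = x * y ∧ y * y ≠ 1) := by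
  decide +kernel

theorem card_cent : ∀ x : AltFive, x * x = 1 → x ≠ 1 →
    (Finset.univ.filter fun y : AltFive => y * x = x * y).card = 4 := by decide +kernel

theorem card_norm : ∀ x : AltFive, x * x = 1 → x ≠ 1 →
    (Finset.univ.filter fun g : AltFive => g * x * g⁻¹ * x = x * (g * x * g⁻¹)).card = 12 := by decide +kernel

theorem card_sq_one : (Finset.univ.filter fun y : AltFive => y * y = 1).card = 16 := by decide +kernel

theorem card_odd_invol : (Finset.univ.filter fun y : SymFive =>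
    y * y = 1 ∧ Equiv.Perm.sign y = -1).card = 10 := by decide +kernel

theorem odd_invol_conj : ∀ x : SymFive, x * x = 1 → Equiv.Perm.sign x = -1 → ∀ y : SymFive, y * y = 1 →
    Equiv.Perm.sign y = -1 → ∃ g : SymFive, Equiv.Perm.sign g = 1 ∧ g * x * g⁻¹ = y := by decide +kernel

theorem odd_moves : ∀ x : SymFive, x * x = 1 → Equiv.Perm.sign x = 1 → x ≠ 1 → ∀ w : SymFive, w * w = 1 →
    Equiv.Perm.sign w = 1 → w * x = x * w → w ≠ 1 → w ≠ x →
      ∃ y : SymFive, y * y = 1 ∧ Equiv.Perm.sign y = -1 ∧ y * x = x * y ∧ y * w * y = x * w := by decide +kernel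

end Cfsg.Lib.A5Stab
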