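import Cfsg.Agent.Lib.A4Stab.Local
import Cfsg.Agent.Lib.A4Stab.Point
import Cfsg.Agent.Lib.A4Stab.Single

/-!
# Doubly transitive groups of odd degree with two-point stabilizers of order at most two

Such a group has no four group with three conjugate involutions.
-/

set_option autoImplicit false
set_option linter.style.haveILetI false
set_option linter.unusedSectionVars false

namespace Cfsg.Lib.A5Stab

open Subgroup MulAction
open Cfsg.Lib.A4Stab (pairStab mem_pairStab conj_smul fix mem_fix_singleton Swaps IsT card_of_pairs pair_count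
  card_fix_pairs card_swap_pairs fix_conj_singleton smul_smul_of_sq card_fix_mod_two single_count
  exists_fixed_of_odd fix_eq_one_of_not_isT OneClass numInv card_eq_centralizer_mul_numInv local_data LocalData
  centralizer_pair)

universe u w

variable {Y : Type u} [Group Y] [Finite Y] {Δ : Type w} [Finite Δ] [MulAction Y Δ] [FaithfulSMul Y Δ]

/-- A doubly transitive group of odd degree with small two-point stabilizers. -/
structure PairTwo (Y : Type u) [Group Y] (Δ : Type w) [MulAction Y Δ] : Prop where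
  two : ∀ {p q r s : Δ}, p ≠ q → r ≠ s → ∃ g : Y, g • p = r ∧ g • q = s
  odd : Nat.card Δ % 2 = 1
  small : ∀ {p q : Δ}, p ≠ q → Nat.card ↥(pairStab Y p q) ≤ 2

/-- The arithmetic of the one-class case. -/
theorem arith_pairTwo {μ s Q n : ℕ} (hμ : 0 < μ) (hs : 0 < s) (hx : μ * s = Q) (hQ : 2 ≤ Q)
    (hn : n + 1 = 4 * (Q * Q))
    (h : n = s * s * ((4 * μ + 1) * (2 * μ + 1)) ∨ n = s * s * ((4 * μ - 1) * (2 * μ - 1))) : False := by
  obtain ⟨ν, rfl⟩ : ∃ ν, μ = ν + 1 := ⟨μ - 1, by omega⟩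
  subst hx
  rcases h with rfl | rfl
  · ring_nf at hn
    omega
  · rw [show 4 * (ν + 1) - 1 = 4 * ν + 3 by omega, show 2 * (ν + 1) - 1 = 2 * ν + 1 by omega] at hn
    have hs1 : s = 1 := by
      have hd : s ∣ s * s * ((4 * ν + 3) * (2 * ν + 1)) + 1 := by
        rw [hn]; exact (dvd_mul_left s (ν + 1)).mul_right _ |>.mul_left 4
      exact Nat.dvd_one.1 ((Nat.dvd_add_right ((dvd_mul_right s s).mul_right _)).1 hd)
    subst hs1
    ring_nf at hn hQ
    omega

namespace PairTwo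

theorem eq_or_eq (P : PairTwo Y Δ) {p q : Δ} (hpq : p ≠ q) {g h : Y} (hg : g ∈ pairStab Y p q) (hg1 : g ≠ 1)
    (hh : h ∈ pairStab Y p q) : h = 1 ∨ h = g := by
  by_contra hc
  push Not at hc
  have hsub : ({1, g, h} : Set Y) ⊆ (pairStab Y p q : Subgroup Y) := by
    rintro x (rfl | rfl | rfl)
    exacts [one_mem _, hg, hh]
  have h3 : ({1, g, h} : Set Y).ncard = 3 := by
    rw [Set.ncard_insert_of_notMem, Set.ncard_pair hc.2.symm]
    rintro (e | e)
    · exact hg1 e.symm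
    · exact hc.1 (Set.mem_singleton_iff.1 e).symm
  have := Set.ncard_le_ncard hsub
  rw [h3, ← Nat.card_coe_set_eq] at this
  have h2 := P.small hpq
  exact absurd (this.trans h2) (by norm_num)

theorem sq_stab (P : PairTwo Y Δ) {p q : Δ} (hpq : p ≠ q) {g : Y} (hg : g ∈ pairStab Y p q) : g * g = 1 := by
  by_cases hg1 : g = 1
  · rw [hg1, one_mul]
  · exact (P.eq_or_eq hpq hg hg1 (mul_mem hg hg)).resolve_right fun e => hg1 (mul_eq_left.1 e)

/-- Two elements exchanging a pair differ by an element of the pair stabilizer. -/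
theorem ncard_swaps_le (P : PairTwo Y Δ) {p q : Δ} (hpq : p ≠ q) : {g : Y | Swaps g p q}.ncard ≤ 2 := by
  rcases Set.eq_empty_or_nonempty {g : Y | Swaps g p q} with e | ⟨g0, hg0⟩
  · rw [e, Set.ncard_empty]; norm_num
  · refine (Set.ncard_le_ncard (t := (g0 * ·) '' ((pairStab Y p q : Subgroup Y) : Set Y)) ?_).trans ?_
    · intro g hg
      obtain ⟨e1, e2⟩ := hg
      obtain ⟨f1, f2⟩ := hg0
      refine ⟨g0⁻¹ * g, mem_pairStab.2 ⟨?_, ?_⟩, mul_inv_cancel_left _ _⟩
      · rw [mul_smul, e1, inv_smul_eq_iff, f1]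
      · rw [mul_smul, e2, inv_smul_eq_iff, f2]
    · rw [Set.ncard_image_of_injective _ (mul_right_injective g0), ← Nat.card_coe_set_eq]
      exact P.small hpq

theorem invol_fixed (P : PairTwo Y Δ) {g : Y} (hg : orderOf g = 2) : ∃ p : Δ, g • p = p := by
  have h := card_fix_mod_two (Ω := Δ) hg
  rw [P.odd] at h
  obtain ⟨p, hp⟩ := (Set.ncard_pos (Set.toFinite _)).1 (show 0 < (fix {g} : Set Δ).ncard by omega)
  exact ⟨p, mem_fix_singleton.1 hp⟩

theorem exists_ne' (P : PairTwo Y Δ) {g : Y} (hg : g ≠ 1) (p : Δ) : ∃ q : Δ, p ≠ q := by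
  by_contra hc
  push Not at hc
  exact hg (FaithfulSMul.eq_of_smul_eq_smul (α := Δ) fun r => by rw [one_smul, ← hc (g • r), ← hc r])

/-- Involutions fixing one point only, per point. -/
theorem ncard_lone_le (P : PairTwo Y Δ) {c q : Δ} (hcq : c ≠ q) :
    {g : Y | (orderOf g = 2 ∧ ¬ IsT Y Δ g) ∧ g • c = c}.ncard ≤
      {g : Y | (orderOf g = 2 ∧ ¬ IsT Y Δ g) ∧ Swaps g c q}.ncard := by
  refine le_of_eq (single_count hcq ⊤ Set.univ (Set.mem_univ c) (Set.mem_univ q) (fun _ _ _ _ => Set.mem_univ _)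
    (fun p _ r _ hne => ?_) {g : Y | orderOf g = 2 ∧ ¬ IsT Y Δ g} (fun _ _ => mem_top _) ?_ fun u hu => ⟨?_, ?_⟩)
  · obtain ⟨k, hk⟩ := P.two hne hcq
    exact ⟨k, mem_top k, hk⟩
  · rintro k - g ⟨h1, h2⟩
    refine ⟨by rw [Invol.orderOf_conj_eq, h1], fun h => h2 ?_⟩
    have := h.conj k⁻¹
    rwa [show k⁻¹ * (k * g * k⁻¹) * k⁻¹⁻¹ = g by group] at this
  · exact fun p _ => smul_smul_of_sq (Invol.inv_mul_self hu.1) p
  · obtain ⟨d, hd⟩ := fix_eq_one_of_not_isT P.odd hu.1 hu.2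
    rw [Set.univ_inter, hd, Set.ncard_singleton]

/-- A four group with conjugate involutions has no involution fixing only one point. -/
theorem isT_of_four (P : PairTwo Y Δ) {x y : Y} (hx : orderOf x = 2) (hy : orderOf y = 2) (hxy : Commute x y)
    (hne : x ≠ y) (c1 : ∃ g : Y, g * x * g⁻¹ = y) (c2 : ∃ g : Y, g * x * g⁻¹ = x * y) : IsT Y Δ x := by
  by_contra hxT
  have hback : ∀ g : Y, ¬ IsT Y Δ (g * x * g⁻¹) := fun g h => hxT (by
    have := h.conj g⁻¹
    rwa [show g⁻¹ * (g * x * g⁻¹) * g⁻¹⁻¹ = x by group] at this)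
  obtain ⟨g1, hg1⟩ := c1
  obtain ⟨g2, hg2⟩ := c2
  have hyT : ¬ IsT Y Δ y := hg1 ▸ hback g1
  have hxyT : ¬ IsT Y Δ (x * y) := hg2 ▸ hback g2
  have hxy2 : orderOf (x * y) = 2 := by rw [← hg2, Invol.orderOf_conj_eq, hx]
  obtain ⟨c, hc⟩ := fix_eq_one_of_not_isT P.odd hx hxT
  have hxc : x • c = c := mem_fix_singleton.1 (by rw [hc]; rfl)
  have hyc : y • c = c := by
    have : y • c ∈ (fix {x} : Set Δ) := mem_fix_singleton.2 (by rw [← mul_smul, hxy.eq, mul_smul, hxc])
    rwa [hc, Set.mem_singleton_iff] at this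
  obtain ⟨q, hq⟩ := P.exists_ne' (Invol.ne_one hx) c
  have h3 : ({x, y, x * y} : Set Y).ncard = 3 := by
    rw [Set.ncard_insert_of_notMem, Set.ncard_pair]
    · exact fun h => Invol.ne_one hx (mul_eq_right.1 h.symm)
    · rintro (h | h)
      · exact hne h
      · exact Invol.ne_one hy (mul_eq_left.1 (Set.mem_singleton_iff.1 h).symm)
  have hsub : ({x, y, x * y} : Set Y) ⊆ {g : Y | (orderOf g = 2 ∧ ¬ IsT Y Δ g) ∧ g • c = c} := by
    rintro g (rfl | rfl | rfl)
    exacts [⟨⟨hx, hxT⟩, hxc⟩, ⟨⟨hy, hyT⟩, hyc⟩, ⟨⟨hxy2, hxyT⟩, by rw [mul_smul, hyc, hxc]⟩]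
  have := (Set.ncard_le_ncard hsub).trans ((P.ncard_lone_le hq).trans
    ((Set.ncard_le_ncard fun g hg => hg.2).trans (P.ncard_swaps_le hq)))
  omega

theorem two_fix {x : Y} (hT : IsT Y Δ x) {p : Δ} : ∃ q : Δ, p ≠ q ∧ x • q = q := by
  obtain ⟨-, r, s, hrs, hr, hs⟩ := hT
  rcases eq_or_ne p r with e | e
  · exact ⟨s, e ▸ hrs, hs⟩
  · exact ⟨r, e, hr⟩

/-- Modulo `x`, one element of order two of `C(x)` fixes a given fixed point of `x`. -/
theorem unique_at (P : PairTwo Y Δ) {x : Y} (hT : IsT Y Δ x) {p : Δ} (hxp : x • p = p) {g h : Y}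
    (hgc : Commute g x) (hhc : Commute h x) (hg2 : g * g = 1 ∨ g * g = x) (hh2 : h * h = 1 ∨ h * h = x)
    (hg : g ≠ 1 ∧ g ≠ x) (hh : h ≠ 1 ∧ h ≠ x) (hgp : g • p = p) (hhp : h • p = p) : h = g ∨ h = g * x := by
  have hxx := Invol.inv_mul_self hT.1
  have hx1 := Invol.ne_one hT.1
  obtain ⟨q, hpq, hxq⟩ := two_fix hT (p := p)
  have hxS : ∀ {r s : Δ}, r ≠ s → x • r = r → x • s = s → ∀ k ∈ pairStab Y r s, k = 1 ∨ k = x :=
    fun hrs hr hs k hk => P.eq_or_eq hrs (mem_pairStab.2 ⟨hr, hs⟩) hx1 hk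
  have hinv : ∀ k ∈ centralizer ({x} : Set Y), ∀ r ∈ (fix {x} : Set Δ), k • r ∈ (fix {x} : Set Δ) :=
    fun k hk r hr => by
      rw [mem_fix_singleton] at hr ⊢
      rw [← mul_smul, ← mem_centralizer_singleton_iff.1 hk, mul_smul, hr]
  set T := {k : Y | Commute k x ∧ (k * k = 1 ∨ k * k = x) ∧ k ≠ 1 ∧ k ≠ x} with hTdef
  have hodd : (fix {x} : Set Δ).ncard % 2 = 1 := by rw [card_fix_mod_two hT.1, P.odd]
  have hsingle := single_count hpq (centralizer ({x} : Set Y)) (fix {x}) (mem_fix_singleton.2 hxp)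
    (mem_fix_singleton.2 hxq) hinv
    (fun r hr s hs hrs => by
      obtain ⟨k, hk1, hk2⟩ := P.two hrs hpq
      refine ⟨k, mem_centralizer_singleton_iff.2 ?_, hk1, hk2⟩
      have hm : k * x * k⁻¹ ∈ pairStab Y p q := mem_pairStab.2
        ⟨by rw [← hk1, conj_smul, mem_fix_singleton.1 hr], by rw [← hk2, conj_smul, mem_fix_singleton.1 hs]⟩
      rcases hxS hpq hxp hxq _ hm with e | e
      · exact absurd (conj_eq_one_iff.1 e) hx1
      · exact mul_inv_eq_iff_eq_mul.1 e)
    T (fun k hk => mem_centralizer_singleton_iff.2 hk.1.eq)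
    (fun k hk u hu => by
      have hkx : k * x * k⁻¹ = x := by rw [mem_centralizer_singleton_iff.1 hk, mul_inv_cancel_right]
      refine ⟨?_, ?_, fun e => hu.2.2.1 (conj_eq_one_iff.1 e), fun e => hu.2.2.2 ?_⟩
      · have := hu.1.map (MulAut.conj k)
        simpa [hkx] using this
      · rw [show k * u * k⁻¹ * (k * u * k⁻¹) = k * (u * u) * k⁻¹ by group]
        rcases hu.2.1 with e | e <;> rw [e]
        · exact Or.inl (by group)
        · exact Or.inr hkx
      · exact mul_left_cancel (mul_right_cancel (e.trans hkx.symm)))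
    (fun u hu => by
      have hsq : ∀ r ∈ (fix {x} : Set Δ), u • u • r = r := fun r hr => by
        rw [← mul_smul]
        rcases hu.2.1 with e | e <;> rw [e]
        · exact one_smul Y r
        · exact mem_fix_singleton.1 hr
      refine ⟨hsq, le_antisymm ((Set.ncard_le_one (Set.toFinite _)).2 fun r hr s hs => ?_) ?_⟩
      · by_contra hrs
        rcases hxS hrs (mem_fix_singleton.1 hr.1) (mem_fix_singleton.1 hs.1) u
          (mem_pairStab.2 ⟨mem_fix_singleton.1 hr.2, mem_fix_singleton.1 hs.2⟩) with e | e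
        exacts [hu.2.2.1 e, hu.2.2.2 e]
      · obtain ⟨r, hr, hru⟩ := exists_fixed_of_odd _ hodd (fun r hr => hinv u
          (mem_centralizer_singleton_iff.2 hu.1.eq) r hr) hsq
        exact (Set.ncard_pos (Set.toFinite _)).2 ⟨r, hr, mem_fix_singleton.2 hru⟩)
  have h2 : {u | u ∈ T ∧ Swaps u p q}.ncard ≤ 2 :=
    (Set.ncard_le_ncard fun u hu => hu.2).trans (P.ncard_swaps_le hpq)
  rw [← hsingle] at h2
  have hgx : g * x ∈ {u | u ∈ T ∧ u • p = p} := by
    refine ⟨⟨hgc.mul_left (Commute.refl x), ?_, fun e => hg.2 ?_, fun e => hg.1 (mul_eq_right.1 e)⟩,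
      by rw [mul_smul, hxp, hgp]⟩
    · rw [hgc.symm.mul_mul_mul_comm, hxx, mul_one]; exact hg2
    · rw [mul_eq_one_iff_eq_inv.1 e, inv_eq_of_mul_eq_one_right hxx]
  by_contra hc
  push Not at hc
  have hsub : ({g, g * x, h} : Set Y) ⊆ {u | u ∈ T ∧ u • p = p} := by
    rintro u (rfl | rfl | rfl)
    exacts [⟨⟨hgc, hg2, hg⟩, hgp⟩, hgx, ⟨⟨hhc, hh2, hh⟩, hhp⟩]
  have h3 : ({g, g * x, h} : Set Y).ncard = 3 := by
    rw [Set.ncard_insert_of_notMem, Set.ncard_pair hc.2.symm]
    rintro (e | e)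
    · exact hx1 (mul_eq_left.1 e.symm)
    · exact hc.1 (Set.mem_singleton_iff.1 e).symm
  have := (Set.ncard_le_ncard hsub).trans h2
  omega

theorem conj_to (P : PairTwo Y Δ) {x g : Y} (hT : IsT Y Δ x) (hg : IsT Y Δ g) {p r : Δ} (hxp : x • p = p)
    (hgr : g • r = r) : ∃ k : Y, k * x * k⁻¹ = g ∧ k • p = r := by
  obtain ⟨q, hpq, hxq⟩ := two_fix hT (p := p)
  obtain ⟨s, hrs, hgs⟩ := two_fix hg (p := r)
  obtain ⟨k, hk1, hk2⟩ := P.two hpq hrs
  refine ⟨k, ((P.eq_or_eq hrs (mem_pairStab.2 ⟨hgr, hgs⟩) (Invol.ne_one hg.1) (mem_pairStab.2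
    ⟨by rw [← hk1, conj_smul, hxp], by rw [← hk2, conj_smul, hxq]⟩)).resolve_left fun e =>
      Invol.ne_one hT.1 (conj_eq_one_iff.1 e)), hk1⟩

set_option maxHeartbeats 1000000 in
/-- The situation is impossible. -/
theorem false_four (P : PairTwo Y Δ) {x y : Y} (hx : orderOf x = 2) (hy : orderOf y = 2) (hxy : Commute x y)
    (hne : x ≠ y) (c1 : ∃ g : Y, g * x * g⁻¹ = y) (c2 : ∃ g : Y, g * x * g⁻¹ = x * y) : False := by
  classical
  haveI : Fact (Nat.Prime 2) := ⟨Nat.prime_two⟩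
  have hT := P.isT_of_four hx hy hxy hne c1 c2
  have hxx := Invol.inv_mul_self hx
  have hyy := Invol.inv_mul_self hy
  have hx1 := Invol.ne_one hx
  obtain ⟨g1, hg1⟩ := c1
  obtain ⟨g2, hg2⟩ := c2
  have hyT : IsT Y Δ y := hg1 ▸ hT.conj g1
  have hxyT : IsT Y Δ (x * y) := hg2 ▸ hT.conj g2
  have hodd : (fix {x} : Set Δ).ncard % 2 = 1 := by rw [card_fix_mod_two hx, P.odd]
  obtain ⟨p, hp, hyp⟩ := exists_fixed_of_odd (g := y) (fix {x} : Set Δ) hodd
    (fun r hr => by
      rw [mem_fix_singleton] at hr ⊢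
      rw [← mul_smul, hxy.eq, mul_smul, hr])
    (fun r _ => smul_smul_of_sq hyy r)
  rw [mem_fix_singleton] at hp
  obtain ⟨q, hpq, hxq⟩ := two_fix hT (p := p)
  have hyn : y ≠ 1 ∧ y ≠ x := ⟨Invol.ne_one hy, hne.symm⟩
  have hxS : ∀ k ∈ pairStab Y p q, k = 1 ∨ k = x := fun k hk =>
    P.eq_or_eq hpq (mem_pairStab.2 ⟨hp, hxq⟩) hx1 hk
  -- exchanging involutions
  obtain ⟨g0, hg0T, hg0⟩ : ∃ g0 : Y, IsT Y Δ g0 ∧ Swaps g0 p q := by
    obtain ⟨r, hr⟩ : ∃ r : Δ, x • r ≠ r := by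
      by_contra hc
      push Not at hc
      exact hx1 (FaithfulSMul.eq_of_smul_eq_smul (α := Δ) fun r => by rw [one_smul, hc r])
    obtain ⟨k, hk1, hk2⟩ := P.two (Ne.symm hr) hpq
    exact ⟨k * x * k⁻¹, hT.conj k, by rw [← hk1, conj_smul, hk2], by
      rw [← hk2, conj_smul, smul_smul_of_sq hxx, hk1]⟩
  -- all involutions fix two points
  have hall : ∀ g : Y, orderOf g = 2 → IsT Y Δ g := by
    intro z0 hz0
    by_contra hz0T
    obtain ⟨c, hc⟩ := P.invol_fixed hz0
    obtain ⟨q', hcq⟩ := P.exists_ne' hx1 c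
    obtain ⟨k, hk, -⟩ := P.two hcq hpq
    set z := k * z0 * k⁻¹
    have hzp : z • p = p := by rw [← hk, conj_smul, hc]
    have hzo : orderOf z = 2 := by rw [Invol.orderOf_conj_eq, hz0]
    have hzT : ¬ IsT Y Δ z := fun h => hz0T (by
      have := h.conj k⁻¹
      rwa [show k⁻¹ * (k * z0 * k⁻¹) * k⁻¹⁻¹ = z0 by group] at this)
    set L := {g : Y | (orderOf g = 2 ∧ ¬ IsT Y Δ g) ∧ g • p = p}
    have hL : L.ncard ≤ 1 := by
      refine (P.ncard_lone_le hpq).trans ?_
      have h1 : {g : Y | (orderOf g = 2 ∧ ¬ IsT Y Δ g) ∧ Swaps g p q}.ncard + 1 ≤ 2 := by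
        refine le_trans ?_ (P.ncard_swaps_le hpq)
        rw [← Set.ncard_insert_of_notMem (fun h : g0 ∈ {g : Y | (orderOf g = 2 ∧ ¬ IsT Y Δ g) ∧ Swaps g p q} => h.1.2 hg0T)]
        exact Set.ncard_le_ncard (Set.insert_subset hg0 fun g hg => hg.2)
      omega
    have hfixed : ∀ m : Y, m • p = p → Commute m z := fun m hm => by
      have e : m * z * m⁻¹ = z := (Set.ncard_le_one (Set.toFinite _)).1 hL _
        ⟨⟨by rw [Invol.orderOf_conj_eq, hzo], fun h => hzT (by
          have := h.conj m⁻¹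
          rwa [show m⁻¹ * (m * z * m⁻¹) * m⁻¹⁻¹ = z by group] at this)⟩, by
          nth_rewrite 1 [← hm]; rw [conj_smul, hzp, hm]⟩ z ⟨⟨hzo, hzT⟩, hzp⟩
      exact mul_inv_eq_iff_eq_mul.1 e
    rcases P.unique_at hT hp hxy.symm (hfixed x hp).symm (Or.inl hyy) (Or.inl (Invol.inv_mul_self hzo)) hyn
      ⟨Invol.ne_one hzo, fun e => hzT (e ▸ hT)⟩ hyp hzp with e | e
    · exact hzT (e ▸ hyT)
    · exact hzT (by rw [e, ← hxy.eq]; exact hxyT)
  -- no elements of order four fix a point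
  have hfour : ∀ g : Y, ∀ r : Δ, g • r = r → g ^ 4 = 1 → g * g = 1 := by
    intro g r hgr h4
    by_contra h2
    have hi : orderOf (g * g) = 2 := Invol.orderOf_eq_two_of h2 (by
      rw [← h4, show (4 : ℕ) = 2 + 2 from rfl, pow_add, pow_two])
    obtain ⟨k, hk, hkp⟩ := P.conj_to hT (hall _ hi) hp (by rw [mul_smul, hgr, hgr])
    set g' := k⁻¹ * g * k
    have hg'2 : g' * g' = x := by
      rw [show g' * g' = k⁻¹ * (g * g) * k by simp only [g']; group, ← hk]; group
    have hg'p : g' • p = p := by rw [mul_smul, mul_smul, hkp, hgr, ← hkp, inv_smul_smul]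
    have hg'n : g' ≠ 1 ∧ g' ≠ x := ⟨fun e => hx1 (by rw [← hg'2, e, one_mul]),
      fun e => hx1 (by rw [← hg'2, e, hxx])⟩
    have hg'x : g' * g' = 1 := by
      have hg'c : Commute g' x := by
        rw [← hg'2]
        exact (Commute.refl g').mul_right (Commute.refl g')
      rcases P.unique_at hT hp hxy.symm hg'c (Or.inl hyy) (Or.inr hg'2) hyn hg'n hyp hg'p with e | e
      · rw [e]; exact hyy
      · rw [e, hxy.mul_mul_mul_comm, hyy, hxx, one_mul]
    exact hx1 (hg'2.symm.trans hg'x)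
  have hcases : ∀ m : Y, m • p = p → Commute m x → m * m = 1 → m = 1 ∨ m = x ∨ m = y ∨ m = y * x := by
    intro m hm hmx hm2
    by_cases h1 : m = 1
    · exact Or.inl h1
    by_cases h2 : m = x
    · exact Or.inr (Or.inl h2)
    exact Or.inr (Or.inr (P.unique_at hT hp hxy.symm hmx (Or.inl hyy) (Or.inl hm2) hyn ⟨h1, h2⟩ hyp hm))
  -- the orders
  obtain ⟨hG, hM⟩ := card_of_pairs hpq (⊤ : Subgroup Y) Set.univ (Set.mem_univ p) (Set.mem_univ q)
    (fun _ _ _ _ => Set.mem_univ _) fun r _ s _ hrs => by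
      obtain ⟨k, hk⟩ := P.two hrs hpq
      exact ⟨k, mem_top k, hk⟩
  have hst : Nat.card ↥(pairStab Y p q) = 2 := by
    refine le_antisymm (P.small hpq) ?_
    rw [← Nat.card_zpowers x |>.trans hx]
    exact card_le_of_le (zpowers_le.2 (mem_pairStab.2 ⟨hp, hxq⟩))
  rw [top_inf_eq, hst, Set.ncard_univ, card_top] at hG
  rw [top_inf_eq, top_inf_eq, hst, Set.ncard_univ] at hM
  set Cx := centralizer ({x} : Set Y)
  have hinv : ∀ k ∈ Cx, ∀ r ∈ (fix {x} : Set Δ), k • r ∈ (fix {x} : Set Δ) := fun k hk r hr => by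
    rw [mem_fix_singleton] at hr ⊢
    rw [← mul_smul, ← mem_centralizer_singleton_iff.1 hk, mul_smul, hr]
  obtain ⟨hC, hCp⟩ := card_of_pairs hpq Cx (fix {x}) (mem_fix_singleton.2 hp) (mem_fix_singleton.2 hxq) hinv
    fun r hr s hs hrs => by
      obtain ⟨k, hk1, hk2⟩ := P.two hrs hpq
      refine ⟨k, mem_centralizer_singleton_iff.2 ?_, hk1, hk2⟩
      rcases hxS (k * x * k⁻¹) (mem_pairStab.2 ⟨by rw [← hk1, conj_smul, mem_fix_singleton.1 hr],
        by rw [← hk2, conj_smul, mem_fix_singleton.1 hs]⟩) with e | e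
      · exact absurd (conj_eq_one_iff.1 e) hx1
      · exact mul_inv_eq_iff_eq_mul.1 e
  have hCst : Cx ⊓ pairStab Y p q = pairStab Y p q := inf_eq_right.2 fun k hk => by
    rcases hxS k hk with rfl | rfl
    · exact one_mem _
    · exact mem_centralizer_singleton_iff.2 rfl
  rw [hCst, hst] at hC hCp
  set k := Nat.card Δ
  set Q := (fix {x} : Set Δ).ncard
  have hQ2 : 2 ≤ Q := by
    rw [← Set.ncard_pair hpq]
    exact Set.ncard_le_ncard (Set.insert_subset (mem_fix_singleton.2 hp)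
      (Set.singleton_subset_iff.2 (mem_fix_singleton.2 hxq)))
  have hk2 : 2 ≤ k := hQ2.trans (show Q ≤ Nat.card Δ by rw [← Set.ncard_univ]; exact Set.ncard_le_ncard (Set.subset_univ _))
  have hk3 := P.odd
  have hfixT : ∀ u, IsT Y Δ u → (fix {u} : Set Δ).ncard = Q := fun u hu => by
    obtain ⟨r, hr⟩ := P.invol_fixed hu.1
    obtain ⟨m, rfl, -⟩ := P.conj_to hT hu hp hr
    rw [fix_conj_singleton, Set.ncard_image_of_injective _ (MulAction.injective m)]
  have htr : ∀ r ∈ (Set.univ : Set Δ), ∀ s ∈ (Set.univ : Set Δ), r ≠ s →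
      ∃ m ∈ (⊤ : Subgroup Y), m • r = p ∧ m • s = q := fun r _ s _ hrs => by
    obtain ⟨m, hm⟩ := P.two hrs hpq
    exact ⟨m, mem_top m, hm⟩
  have hF := pair_count hpq ⊤ Set.univ (Set.mem_univ p) (Set.mem_univ q) (fun _ _ _ _ => Set.mem_univ _) htr
    {u | IsT Y Δ u} (fun m _ u hu => IsT.conj hu m) (fun u r s => u • r = r ∧ u • s = s)
    (fun m u r s h => ⟨by rw [conj_smul, h.1], by rw [conj_smul, h.2]⟩) (Q * (Q - 1)) fun u hu => by
      rw [card_fix_pairs, Set.univ_inter, hfixT u hu]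
  have hS := pair_count hpq ⊤ Set.univ (Set.mem_univ p) (Set.mem_univ q) (fun _ _ _ _ => Set.mem_univ _) htr
    {u | IsT Y Δ u} (fun m _ u hu => IsT.conj hu m) (fun u r s => Swaps u r s)
    (fun m u r s h => h.conj) (k - Q) fun u hu => by
      show {z : Δ × Δ | z.1 ∈ Set.univ ∧ z.2 ∈ Set.univ ∧ z.1 ≠ z.2 ∧ (u • z.1 = z.2 ∧ u • z.2 = z.1)}.ncard = _
      rw [card_swap_pairs _ (smul_smul_of_sq (Invol.inv_mul_self hu.1)) (fun _ _ => Set.mem_univ _),
        Set.univ_inter, hfixT u hu, Set.ncard_univ]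
  simp only [Set.mem_setOf_eq, Set.ncard_univ] at hF hS
  have e1 : {u | IsT Y Δ u ∧ (u • p = p ∧ u • q = q)} = {x} := by
    ext u
    constructor
    · rintro ⟨hu, h1, h2⟩
      exact (hxS u (mem_pairStab.2 ⟨h1, h2⟩)).resolve_left (Invol.ne_one hu.1)
    · rintro rfl
      exact ⟨hT, hp, hxq⟩
  have e2 : {u | IsT Y Δ u ∧ Swaps u p q}.ncard = 2 := by
    refine le_antisymm ((Set.ncard_le_ncard fun u hu => hu.2).trans (P.ncard_swaps_le hpq)) ?_
    have hg00 := Invol.inv_mul_self hg0T.1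
    have hc0 : g0 * x * g0⁻¹ = x := (hxS _ (mem_pairStab.2
      ⟨by nth_rewrite 1 [← hg0.2]; rw [conj_smul, hxq, hg0.2], by nth_rewrite 1 [← hg0.1]; rw [conj_smul, hp, hg0.1]⟩)).resolve_left
        fun e => hx1 (conj_eq_one_iff.1 e)
    have hsx : Swaps (g0 * x) p q := ⟨by rw [mul_smul, hp, hg0.1], by rw [mul_smul, hxq, hg0.2]⟩
    have hgx : orderOf (g0 * x) = 2 := Invol.orderOf_eq_two_of
      (fun e => hpq (by have := hsx.1; rwa [e, one_smul] at this))
      (by rw [(show Commute g0 x from mul_inv_eq_iff_eq_mul.1 hc0).symm.mul_mul_mul_comm, hg00, hxx, one_mul])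
    rw [← Set.ncard_pair (fun e : g0 = g0 * x => hx1 (mul_eq_left.1 e.symm))]
    exact Set.ncard_le_ncard (Set.insert_subset ⟨hg0T, hg0⟩ (Set.singleton_subset_iff.2 ⟨hall _ hgx, hsx⟩))
  rw [e1, Set.ncard_singleton, mul_one] at hF
  rw [e2] at hS
  have hkQ : k - Q = 2 * (Q * (Q - 1)) := by
    have hTpos : 0 < {u | IsT Y Δ u}.ncard := (Set.ncard_pos (Set.toFinite _)).2 ⟨x, hT⟩
    refine Nat.eq_of_mul_eq_mul_left hTpos ?_
    rw [hS, mul_left_comm, hF, mul_comm]
  -- the Sylow two-subgroups have order at most four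
  have h8 : ¬ 8 ∣ Nat.card (stabilizer Y p) := by
    intro h
    obtain ⟨R, hR⟩ := Sylow.exists_subgroup_card_pow_prime (G := stabilizer Y p) 2 (n := 3) (by norm_num; exact h)
    have hsq : ∀ m ∈ R, m * m = 1 := by
      intro m hm
      obtain ⟨j, hj⟩ := (IsPGroup.of_card (n := 3) hR : IsPGroup 2 R) ⟨m, hm⟩
      have hj' : (m : Y) ^ 2 ^ j = 1 := congrArg (fun z : R => ((z : stabilizer Y p) : Y)) hj
      have key : ∀ i : ℕ, (m : Y) ^ 2 ^ i = 1 → (m : Y) * m = 1 := by
        intro i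
        induction i with
        | zero => intro e; rw [pow_zero, pow_one] at e; rw [e, one_mul]
        | succ i ih =>
          intro e
          rcases i with _ | i
          · rwa [pow_one, pow_two] at e
          · refine ih ?_
            have hfix : ((m : Y) ^ 2 ^ i) • p = p :=
              mem_stabilizer_iff.1 (pow_mem (m.2 : (m : Y) ∈ stabilizer Y p) _)
            have h4 : ((m : Y) ^ 2 ^ i) ^ 4 = 1 := by
              rw [← pow_mul, show 2 ^ i * 4 = 2 ^ (i + 1 + 1) by ring, e]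
            have := hfour _ p hfix h4
            rwa [← pow_add, ← two_mul, ← pow_succ'] at this
      exact Subtype.ext (key j hj')
    haveI : Nontrivial R := Finite.one_lt_card_iff_nontrivial.1 (by rw [hR]; norm_num)
    obtain ⟨i, hi⟩ := exists_ne (1 : R)
    have hiT : IsT Y Δ ((i : stabilizer Y p) : Y) := hall _ (Invol.orderOf_eq_two_of
      (fun e => hi (Subtype.ext (Subtype.ext e))) (congrArg Subtype.val (hsq _ i.2)))
    obtain ⟨m, hm, hmp⟩ := P.conj_to hT hiT hp (i : stabilizer Y p).2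
    have hmap : ∀ r : R, m⁻¹ * ((r : stabilizer Y p) : Y) * m ∈ ({1, x, y, y * x} : Set Y) := by
      intro r
      have hrr := congrArg Subtype.val (hsq _ r.2)
      have hii := congrArg Subtype.val (hsq _ i.2)
      have hri := congrArg Subtype.val (hsq _ (mul_mem r.2 i.2))
      simp only [Subgroup.coe_mul, OneMemClass.coe_one] at hrr hii hri
      have hcomm : ((r : stabilizer Y p) : Y) * (i : stabilizer Y p) = (i : stabilizer Y p) * (r : stabilizer Y p) := by
        have h2 := inv_eq_of_mul_eq_one_right hri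
        rw [mul_inv_rev, inv_eq_of_mul_eq_one_right hrr, inv_eq_of_mul_eq_one_right hii] at h2
        exact h2.symm
      rcases hcases (m⁻¹ * ((r : stabilizer Y p) : Y) * m) (by
          rw [mul_smul, mul_smul, hmp, mem_stabilizer_iff.1 (r : stabilizer Y p).2, inv_smul_eq_iff.2 hmp.symm])
        (by
          show m⁻¹ * _ * m * x = x * (m⁻¹ * _ * m)
          rw [show x = m⁻¹ * ((i : stabilizer Y p) : Y) * m by rw [← hm]; group,
            show m⁻¹ * ((r : stabilizer Y p) : Y) * m * (m⁻¹ * ((i : stabilizer Y p) : Y) * m) =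
              m⁻¹ * (((r : stabilizer Y p) : Y) * (i : stabilizer Y p)) * m by group, hcomm]
          group)
        (by rw [show m⁻¹ * ((r : stabilizer Y p) : Y) * m * (m⁻¹ * ((r : stabilizer Y p) : Y) * m) =
              m⁻¹ * (((r : stabilizer Y p) : Y) * (r : stabilizer Y p)) * m by group, hrr]; group)
        with e | e | e | e <;> simp [e]
    have h4 : Nat.card R ≤ ({1, x, y, y * x} : Set Y).ncard := by
      rw [← Nat.card_coe_set_eq]
      refine Nat.card_le_card_of_injective (fun r => (⟨_, hmap r⟩ : ({1, x, y, y * x} : Set Y))) fun r s hrs => ?_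
      have h' : m⁻¹ * ((r : stabilizer Y p) : Y) * m = m⁻¹ * ((s : stabilizer Y p) : Y) * m := congrArg Subtype.val hrs
      exact Subtype.ext (Subtype.ext (mul_left_cancel (mul_right_cancel h')))
    have h5 : ({1, x, y, y * x} : Set Y).ncard ≤ 4 := by
      refine (Set.ncard_insert_le _ _).trans ?_
      refine Nat.add_le_add_right ((Set.ncard_insert_le _ _).trans ?_) 1
      exact Nat.add_le_add_right ((Set.ncard_insert_le _ _).trans (by rw [Set.ncard_singleton])) 1
    rw [hR] at h4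
    omega
  have h8' : ¬ 8 ∣ Nat.card Y := by
    intro h
    refine h8 ?_
    rw [hG, show 2 * (k * (k - 1)) = k * (2 * (k - 1)) by ring, ← hM] at h
    exact (Nat.Coprime.pow_left 3 (Nat.coprime_two_left.2 (Nat.odd_iff.2 hk3))).dvd_of_dvd_mul_left h
  have hD : GW.TwoCycDih Y := by
    intro R hR
    obtain ⟨n, hn⟩ := hR.exists_card_eq
    have hn2 : n ≤ 2 := by
      by_contra hn3
      exact h8' ((pow_dvd_pow 2 (show 3 ≤ n by omega)).trans (hn ▸ card_subgroup_dvd_card R))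
    by_cases hc : IsCyclic R
    · exact GW.CycDih.of_isCyclic
    haveI : Nontrivial R := not_subsingleton_iff_nontrivial.1 fun h => hc inferInstance
    obtain ⟨g, hg⟩ := exists_ne (1 : R)
    have hsq : ∀ m : R, m * m = 1 := by
      intro m
      by_contra hm
      refine hc (isCyclic_of_orderOf_eq_card m ?_)
      obtain ⟨j, hj, hjo⟩ := (Nat.dvd_prime_pow Nat.prime_two).1 (hn ▸ orderOf_dvd_natCard m)
      have hj2 : ¬ j ≤ 1 := fun hj1 => hm (by
        rw [← pow_two]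
        exact orderOf_dvd_iff_pow_eq_one.1 (hjo ▸ (pow_dvd_pow 2 hj1).trans (by norm_num)))
      rw [hn, hjo, show j = n by omega]
    refine ⟨zpowers g, inferInstance, ?_, fun m _ => hsq m⟩
    have h := (zpowers g).card_mul_index
    rw [Nat.card_zpowers, Invol.orderOf_eq_two_of hg (hsq g), hn] at h
    have : 2 ^ n ≤ 2 ^ 2 := Nat.pow_le_pow_right (by norm_num) hn2
    omega
  have h1 : OneClass Y := fun u w hu hw => by
    obtain ⟨r, hr⟩ := P.invol_fixed hu
    obtain ⟨s, hs⟩ := P.invol_fixed hw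
    obtain ⟨m, hm, -⟩ := P.conj_to hT (hall u hu) hp hr
    obtain ⟨l, hl, -⟩ := P.conj_to hT (hall w hw) hp hs
    exact ⟨l * m⁻¹, by rw [← hm, ← hl]; group⟩
  -- the centralizer of the four group
  have hCxy : centralizer ({x, y} : Set Y) = Cx ⊓ stabilizer Y p := by
    rw [centralizer_pair]
    refine le_antisymm (fun m hm => mem_inf.2 ⟨(mem_inf.1 hm).1, mem_stabilizer_iff.2 ?_⟩)
      fun m hm => mem_inf.2 ⟨(mem_inf.1 hm).1, mem_centralizer_singleton_iff.2 ?_⟩
    · by_contra hne'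
      have hmx := hinv m (mem_inf.1 hm).1 p (mem_fix_singleton.2 hp)
      rw [mem_fix_singleton] at hmx
      have hmy : y • m • p = m • p := by
        rw [← mul_smul, ← mem_centralizer_singleton_iff.1 (mem_inf.1 hm).2, mul_smul, hyp]
      rcases P.eq_or_eq hne' (mem_pairStab.2 ⟨hmx, hp⟩) hx1 (mem_pairStab.2 ⟨hmy, hyp⟩) with e | e
      exacts [hyn.1 e, hyn.2 e]
    · obtain ⟨hmx, hmp⟩ := mem_inf.1 hm
      have hmx' : m * x * m⁻¹ = x := by rw [mem_centralizer_singleton_iff.1 hmx, mul_inv_cancel_right]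
      obtain ⟨j, o, ho, hord⟩ := Nat.exists_eq_two_pow_mul_odd (orderOf_pos m).ne'
      set h := m ^ o
      have hhp : h • p = p := mem_stabilizer_iff.1 (pow_mem hmp o)
      have hh2 : h * h = 1 := by
        have hh : h ^ 2 ^ j = 1 := by rw [← pow_mul, mul_comm, ← hord, pow_orderOf_eq_one]
        clear hord
        induction j with
        | zero => rw [pow_zero, pow_one] at hh; rw [hh, one_mul]
        | succ j ih =>
          rcases j with _ | j
          · rwa [pow_one, pow_two] at hh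
          · refine ih ?_
            have h4 : (h ^ 2 ^ j) ^ 4 = 1 := by rw [← pow_mul, show 2 ^ j * 4 = 2 ^ (j + 1 + 1) by ring, hh]
            have := hfour _ p (mem_stabilizer_iff.1 (pow_mem (mem_stabilizer_iff.2 hhp) _)) h4
            rwa [← pow_add, ← two_mul, ← pow_succ'] at this
      have hhy : Commute h y := by
        rcases hcases h hhp ((show Commute m x from mem_centralizer_singleton_iff.1 hmx).pow_left o) hh2
          with e | e | e | e <;> rw [e]
        exacts [Commute.one_left y, hxy, (Commute.refl y).mul_left hxy]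
      have hmy : (m * y * m⁻¹ = y) ∨ m * y * m⁻¹ = y * x := by
        refine P.unique_at hT hp hxy.symm ?_ (Or.inl hyy) (Or.inl ?_) hyn ⟨?_, ?_⟩ hyp ?_
        · have := hxy.symm.map (MulAut.conj m)
          simpa [hmx'] using this
        · rw [show m * y * m⁻¹ * (m * y * m⁻¹) = m * (y * y) * m⁻¹ by group, hyy, mul_one, mul_inv_cancel]
        · exact fun e => hyn.1 (conj_eq_one_iff.1 e)
        · exact fun e => hyn.2 (mul_left_cancel (mul_right_cancel (e.trans hmx'.symm)))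
        · rw [mul_smul, mul_smul, inv_smul_eq_iff.2 (mem_stabilizer_iff.1 hmp).symm, hyp, mem_stabilizer_iff.1 hmp]
      rcases hmy with e | e
      · exact mul_inv_eq_iff_eq_mul.1 e
      exfalso
      have hpow : ∀ i : ℕ, m ^ i * y * (m ^ i)⁻¹ = if i % 2 = 0 then y else y * x := by
        intro i
        induction i with
        | zero => simp
        | succ i ih =>
          rw [pow_succ', show m * m ^ i * y * (m * m ^ i)⁻¹ = m * (m ^ i * y * (m ^ i)⁻¹) * m⁻¹ by group, ih]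
          rcases Nat.mod_two_eq_zero_or_one i with hi | hi
          · rw [if_pos hi, if_neg (by omega), e]
          · rw [if_neg (by omega), if_pos (by omega),
              show m * (y * x) * m⁻¹ = (m * y * m⁻¹) * (m * x * m⁻¹) by group, e, hmx', mul_assoc, hxx, mul_one]
      have := hpow o
      rw [if_neg (by rw [Nat.odd_iff.1 ho]; norm_num), hhy.eq, mul_inv_cancel_right] at this
      exact hx1 (mul_eq_left.1 this.symm)
  have hnum := card_eq_centralizer_mul_numInv h1 hx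
  rw [show centralizer ({x} : Set Y) = Cx from rfl, hC, hG] at hnum
  have hloc := local_data hD h1 hx hy hxy hne
  unfold LocalData at hloc
  rw [hCxy, hCp, show centralizer ({x} : Set Y) = Cx from rfl, hC] at hloc
  obtain ⟨Q', hQ'⟩ : ∃ Q', Q = Q' + 1 := ⟨Q - 1, (Nat.sub_add_cancel (le_trans one_le_two hQ2)).symm⟩
  rw [hQ', Nat.add_sub_cancel] at hloc hnum hkQ
  have hk : k = 2 * Q' * Q' + 3 * Q' + 1 := by
    have : k - (Q' + 1) = 2 * ((Q' + 1) * Q') := hkQ
    have hpos : 0 < (Q' + 1) * Q' := Nat.mul_pos (by omega) (by omega)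
    ring_nf at this hpos ⊢
    omega
  have hnum' : numInv Y + 1 = 4 * ((Q' + 1) * (Q' + 1)) := by
    refine Nat.eq_of_mul_eq_mul_left (show 0 < 2 * ((Q' + 1) * Q') from
      Nat.mul_pos two_pos (Nat.mul_pos (by omega) (by omega))) ?_
    rw [mul_add, ← hnum, hk, show 2 * Q' * Q' + 3 * Q' + 1 - 1 = 2 * Q' * Q' + 3 * Q' by omega]
    ring
  rcases hloc with ⟨μ, s, D, hs, -, hμ, h5, h6, h7⟩ | ⟨h5, -⟩
  swap
  · exact h8' h5
  have hQD : Q' = 2 * D := by omega
  have hx' : μ * s = Q' + 1 := by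
    refine Nat.eq_of_mul_eq_mul_left (show 0 < 4 * D by omega) ?_
    rw [show 4 * D * (μ * s) = 4 * (μ * s * D) by ring, ← h6, hQD]
    ring
  exact arith_pairTwo hμ hs.pos hx' (by omega) hnum' h7

end PairTwo

end Cfsg.Lib.A5Stab
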