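import Cfsg.Agent.Lib.A5Stab.Counts
import Cfsg.Agent.Lib.A5Stab.PairTwo
import Cfsg.Agent.S0205

/-!
# Odd degree with a central exchanging involution
-/

set_option autoImplicit false
set_option linter.style.haveILetI false
set_option linter.unusedSectionVars false

namespace Cfsg.Lib.A5Stab

open Subgroup MulAction
open Cfsg.Lib.A4Stab (pairStab mem_pairStab conj_smul fix mem_fix_singleton mem_fix_pair Swaps IsT
  eq_one_of_fix_univ smul_smul_of_sq card_fix_mod_two fix_eq_one_of_not_isT centralizer_sup_oddCore single_count)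

universe u w

variable {G : Type u} [Group G] [Finite G] {Ω : Type w} [Finite Ω] [MulAction G Ω] [FaithfulSMul G Ω]

/-- A nontrivial normal subgroup is transitive. -/
theorem transitive_of_normal {a b : Ω} (c : Ctx G a b) (M : Subgroup G) [M.Normal] (hM : M ≠ ⊥) (p : Ω) :
    ∃ m ∈ M, m • a = p := by
  obtain ⟨m, hm, hma⟩ : ∃ m ∈ M, m • a ≠ a := by
    by_contra hc
    push Not at hc
    refine hM (eq_bot_iff.2 fun m hm => mem_bot.2 (eq_one_of_fix_univ (Ω := Ω) fun q => ?_))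
    rcases eq_or_ne q a with rfl | hq
    · exact hc m hm
    obtain ⟨g, hga, -⟩ := c.two hq.symm hq
    have h := hc _ ((inferInstance : M.Normal).conj_mem m hm g⁻¹)
    rw [inv_inv, mul_smul, mul_smul, hga, inv_smul_eq_iff, hga] at h
    exact h
  rcases eq_or_ne p a with rfl | hp
  · exact ⟨1, one_mem _, one_smul G _⟩
  obtain ⟨g, hga, hgp⟩ := c.two (Ne.symm hma) hp.symm
  refine ⟨g * m * g⁻¹, (inferInstance : M.Normal).conj_mem m hm g, ?_⟩
  rw [← hga, conj_smul, hgp]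

/-- A nontrivial solvable normal subgroup gives a regular normal subgroup. -/
theorem exists_regular_of_solvable {a b : Ω} (c : Ctx G a b) (O : Subgroup G) [O.Normal] (hO : O ≠ ⊥)
    (hs : Group.IsSolvable O) :
    ∃ N : Subgroup G, N.Normal ∧ IsPretransitive ↥N Ω ∧ ∀ x : Ω, stabilizer ↥N x = ⊥ := by
  classical
  obtain ⟨N, ⟨hN1, hN2, hN3⟩, hmin⟩ := Set.Finite.exists_minimal
    (Set.toFinite {N : Subgroup G | N.Normal ∧ N ≤ O ∧ N ≠ ⊥}) ⟨O, inferInstance, le_rfl, hO⟩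
  haveI := hN1
  haveI : Group.IsSolvable ↥N := by
    haveI := hs
    exact solvable_of_solvable_injective (inclusion_injective hN2)
  haveI : Nontrivial ↥N := (nontrivial_iff_ne_bot N).2 hN3
  have hab : ∀ x ∈ N, ∀ y ∈ N, x * y = y * x := by
    have hlt : ⁅N, N⁆ < N := by
      have h := (IsSolvable.commutator_lt_top_of_nontrivial ↥N)
      refine lt_of_le_of_ne (commutator_le_left N N) fun e => h.ne ?_
      refine Subgroup.map_injective N.subtype_injective ?_
      rw [map_subtype_commutator, ← MonoidHom.range_eq_map, range_subtype]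
      exact e
    have hbot : ⁅N, N⁆ = ⊥ := by
      by_contra hne
      exact hlt.not_ge (hmin ⟨inferInstance, hlt.le.trans hN2, hne⟩ hlt.le)
    intro x hx y hy
    exact mem_centralizer_iff.1 ((Subgroup.commutator_eq_bot_iff_le_centralizer.1 hbot) hy) x hx
  have htr := transitive_of_normal c N hN3
  refine ⟨N, hN1, ⟨fun p q => ?_⟩, fun x => eq_bot_iff.2 fun m hm => ?_⟩
  · obtain ⟨m, hm, hmp⟩ := htr p
    obtain ⟨l, hl, hlq⟩ := htr q
    exact ⟨⟨l * m⁻¹, mul_mem hl (inv_mem hm)⟩, by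
      show (l * m⁻¹) • p = q
      rw [← hmp, mul_smul, inv_smul_smul, hlq]⟩
  · refine mem_bot.2 (Subtype.ext (eq_one_of_fix_univ (Ω := Ω) fun q => ?_))
    obtain ⟨k, hk, hkx⟩ := htr x
    obtain ⟨l, hl, hlq⟩ := htr q
    have hmx : (m : G) • x = x := mem_stabilizer_iff.1 hm
    have hma : (m : G) • a = a := by
      have h1 : (m : G) • k • a = k • (m : G) • a := by rw [← mul_smul, ← mul_smul, hab _ m.2 k hk]
      rw [hkx, hmx, ← hkx] at h1
      exact MulAction.injective k h1.symm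
    rw [← hlq, ← mul_smul, hab _ m.2 l hl, mul_smul, hma]

namespace Base

variable {a b : Ω} {t v : G}

/-- An exchanging central involution fixing one point only gives a regular normal subgroup. -/
theorem regular_of_lone (B : Base G a b t v) (hn : Nat.card Ω % 2 = 1) {z : G} (hz : Central G a b z)
    (hzT : ¬ IsT G Ω z) :
    ∃ N : Subgroup G, N.Normal ∧ IsPretransitive ↥N Ω ∧ ∀ x : Ω, stabilizer ↥N x = ⊥ := by
  have hzt : IsT G Ω (z * t) := by
    rcases B.central_beta hz with ⟨h, -, -⟩ | ⟨h, -, -⟩ | ⟨-, h, -⟩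
    exacts [absurd h hzT, absurd h hzT, h]
  have hc := single_count B.toCtx.ne (⊤ : Subgroup G) Set.univ (Set.mem_univ a) (Set.mem_univ b)
    (fun _ _ _ _ => Set.mem_univ _)
    (fun p _ r _ hne => by
      obtain ⟨k, hk⟩ := B.toCtx.two hne B.toCtx.ne
      exact ⟨k, mem_top k, hk⟩)
    {g : G | orderOf g = 2 ∧ ¬ IsT G Ω g} (fun _ _ => mem_top _)
    (fun k _ g hg => ⟨by rw [Invol.orderOf_conj_eq, hg.1], fun h => hg.2 (by
      have := h.conj k⁻¹
      rwa [show k⁻¹ * (k * g * k⁻¹) * k⁻¹⁻¹ = g by group] at this)⟩)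
    fun u hu => ⟨fun p _ => smul_smul_of_sq (Invol.inv_mul_self hu.1) p, by
      obtain ⟨d, hd⟩ := fix_eq_one_of_not_isT hn hu.1 hu.2
      rw [Set.univ_inter, hd, Set.ncard_singleton]⟩
  have h1 : {g | g ∈ {g : G | orderOf g = 2 ∧ ¬ IsT G Ω g} ∧ g • a = a}.ncard ≤ 1 := by
    rw [hc]
    refine (Set.ncard_le_ncard (t := ({z} : Set G)) ?_).trans (by rw [Set.ncard_singleton])
    rintro g ⟨⟨hgo, hgT⟩, hgs⟩
    obtain ⟨h, hh, h2, rfl⟩ := (B.central_swap_invol hz).1 ⟨hgo, hgs⟩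
    rcases eq_or_ne h 1 with rfl | e
    · simp
    · exact absurd ((B.isT_mul_invol hz hh h2 e).2 hzt) hgT
  obtain ⟨c, hzc0⟩ := fix_eq_one_of_not_isT hn hz.ord hzT
  have hzc : z • c = c := mem_fix_singleton.1 (by rw [hzc0]; rfl)
  obtain ⟨q, hq⟩ : ∃ q : Ω, c ≠ q := by
    rcases eq_or_ne c a with e | e
    · exact ⟨b, e ▸ B.toCtx.ne⟩
    · exact ⟨a, e⟩
  obtain ⟨k, hka, -⟩ := B.toCtx.two hq B.toCtx.ne
  have hiso : IsIsolatedInvolution z := by
    refine ⟨hz.ord, fun g hg => ?_⟩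
    have hgc : (g * z * g⁻¹) • c = c := by
      have : (g * z * g⁻¹) • c ∈ (fix {z} : Set Ω) := mem_fix_singleton.2 (by rw [← mul_smul, hg.eq, mul_smul, hzc])
      rwa [hzc0, Set.mem_singleton_iff] at this
    have hm : ∀ x : G, orderOf x = 2 → ¬ IsT G Ω x → x • c = c →
        k * x * k⁻¹ ∈ {g | g ∈ {g : G | orderOf g = 2 ∧ ¬ IsT G Ω g} ∧ g • a = a} := fun x hx hxT hxc =>
      ⟨⟨by rw [Invol.orderOf_conj_eq, hx], fun h => hxT (by
        have := h.conj k⁻¹
        rwa [show k⁻¹ * (k * x * k⁻¹) * k⁻¹⁻¹ = x by group] at this)⟩, by rw [← hka, conj_smul, hxc]⟩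
    refine mul_left_cancel (mul_right_cancel ((Set.ncard_le_one (Set.toFinite _)).1 h1 _
      (hm (g * z * g⁻¹) (by rw [Invol.orderOf_conj_eq, hz.ord]) (fun h => hzT ?_) hgc) _ (hm z hz.ord hzT hzc)))
    have := h.conj g⁻¹
    rwa [show g⁻¹ * (g * z * g⁻¹) * g⁻¹⁻¹ = z by group] at this
  have htop := centralizer_sup_oddCore hiso
  have hO : Cfsg.oddCore G ≠ ⊥ := by
    intro e
    rw [e, sup_bot_eq] at htop
    have hfix : ∀ g : G, g • c = c := fun g => by
      have hg : g ∈ centralizer ({z} : Set G) := htop ▸ mem_top g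
      have : g • c ∈ (fix {z} : Set Ω) := mem_fix_singleton.2 (by
        rw [← mul_smul, ← mem_centralizer_singleton_iff.1 hg, mul_smul, hzc])
      rwa [hzc0, Set.mem_singleton_iff] at this
    obtain ⟨g, hg, -⟩ := B.toCtx.two hq hq.symm
    exact hq ((hfix g).symm.trans hg)
  exact exists_regular_of_solvable B.toCtx _ hO (Cfsg.Agent.S0205.result ZStar.odd_card_oddCore)

/-- An exchanging central involution does not fix two points. -/
theorem false_of_central_isT (B : Base G a b t v) (hn : Nat.card Ω % 2 = 1) {z : G} (hz : Central G a b z)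
    (hzT : IsT G Ω z) : False := by
  classical
  have hinv : ∀ k ∈ centralizer ({z} : Set G), ∀ p ∈ (fix {z} : Set Ω), k • p ∈ (fix {z} : Set Ω) :=
    fun k hk p hp => fix_smul_centralizer hk hp
  letI : MulAction ↥(centralizer ({z} : Set G)) ↥(fix {z} : Set Ω) :=
    { smul := fun k p => ⟨(k : G) • (p : Ω), hinv _ k.2 _ p.2⟩
      one_smul := fun p => Subtype.ext (one_smul G _)
      mul_smul := fun k l p => Subtype.ext (mul_smul (k : G) (l : G) (p : Ω)) }
  set f := MulAction.toPermHom ↥(centralizer ({z} : Set G)) ↥(fix {z} : Set Ω) with hf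
  have happ : ∀ (k : ↥(centralizer ({z} : Set G))) (p : ↥(fix {z} : Set Ω)), ((f k) p : Ω) = (k : G) • (p : Ω) :=
    fun _ _ => rfl
  have hHC : ∀ h ∈ pairStab G a b, h ∈ centralizer ({z} : Set G) := fun h hh =>
    mem_centralizer_singleton_iff.2 (hz.comm h hh).eq.symm
  obtain ⟨-, r, s, hrs, hr, hs⟩ := id hzT
  have hker : ∀ h (hh : h ∈ pairStab G a b), orderOf h = 2 → f ⟨h, hHC h hh⟩ ≠ 1 := by
    intro h hh ho hf1
    have hall : {x : G | x ∈ pairStab G a b ∧ x * x = 1} ⊆ (fourAt G r s z : Subgroup G) := by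
      rintro x ⟨hx, hx2⟩
      rcases eq_or_ne x 1 with rfl | hx1
      · exact one_mem _
      obtain ⟨m, hm, hme⟩ := B.toCtx.exists_conj hh hx ho (Invol.orderOf_eq_two_of hx1 hx2)
      have hfx : f ⟨x, hHC x hx⟩ = 1 := by
        rw [show (⟨x, hHC x hx⟩ : ↥(centralizer ({z} : Set G))) = ⟨m, hHC m hm⟩ * ⟨h, hHC h hh⟩ * ⟨m, hHC m hm⟩⁻¹ from
          Subtype.ext hme.symm, map_mul, map_mul, hf1, mul_one, map_inv, mul_inv_cancel]
      have e : ∀ p : ↥(fix {z} : Set Ω), x • (p : Ω) = p := fun p => by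
        have := happ ⟨x, hHC x hx⟩ p
        rw [hfx] at this
        exact this.symm
      exact mem_inf.2 ⟨mem_pairStab.2 ⟨e ⟨r, mem_fix_singleton.2 hr⟩, e ⟨s, mem_fix_singleton.2 hs⟩⟩, hHC x hx⟩
    have h4 := Set.ncard_le_ncard hall
    rw [B.toCtx.ncard_sq_one, ← Nat.card_coe_set_eq] at h4
    have h4' : Nat.card ↥(fourAt G r s z) = 4 :=
      (B.toCtx.change hrs).card_centralizer_invol (mem_pairStab.2 ⟨hr, hs⟩) hz.ord
    have h5 : (16 : ℕ) ≤ Nat.card ↥(fourAt G r s z) := h4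
    omega
  have P : PairTwo ↥f.range ↥(fix {z} : Set Ω) := by
    refine ⟨?_, ?_, ?_⟩
    · intro p q p' q' hpq hpq'
      obtain ⟨v', B'⟩ := exists_base_of (B.toCtx.change (fun e => hpq' (Subtype.ext e)))
        (mem_pairStab.2 ⟨mem_fix_singleton.1 p'.2, mem_fix_singleton.1 q'.2⟩) hz.ord
      obtain ⟨k, hk, hk1, hk2⟩ := B'.exists_centralizer_map (fun e => hpq (Subtype.ext e))
        (mem_fix_singleton.1 p.2) (mem_fix_singleton.1 q.2)
      exact ⟨⟨f ⟨k, hk⟩, ⟨k, hk⟩, rfl⟩, Subtype.ext hk1, Subtype.ext hk2⟩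
    · rw [Nat.card_coe_set_eq, card_fix_mod_two hz.ord, hn]
    · intro p q hpq
      obtain ⟨v', B'⟩ := exists_base_of (B.toCtx.change (fun e => hpq (Subtype.ext e)))
        (mem_pairStab.2 ⟨mem_fix_singleton.1 p.2, mem_fix_singleton.1 q.2⟩) hz.ord
      have hv'C : v' ∈ centralizer ({z} : Set G) := (mem_inf.1 B'.v_mem_four).2
      have hzC : z ∈ centralizer ({z} : Set G) := mem_centralizer_singleton_iff.2 rfl
      have hfz : f ⟨z, hzC⟩ = 1 := Equiv.ext fun x => Subtype.ext (mem_fix_singleton.1 x.2)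
      have hsub : ∀ y : ↥f.range, y ∈ pairStab ↥f.range p q → (y : Equiv.Perm ↥(fix {z} : Set Ω)) = 1 ∨ (y : Equiv.Perm ↥(fix {z} : Set Ω)) = f ⟨v', hv'C⟩ := by
        rintro ⟨_, m, rfl⟩ hy
        obtain ⟨h1, h2⟩ := mem_pairStab.1 hy
        have hm : (m : G) ∈ fourAt G (p : Ω) q z := mem_inf.2 ⟨mem_pairStab.2
          ⟨congrArg Subtype.val h1, congrArg Subtype.val h2⟩, m.2⟩
        rcases B'.four_cases hm with e | e | e | e
        · exact Or.inl (by show f m = 1; rw [show m = 1 from Subtype.ext e, map_one])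
        · exact Or.inl (by show f m = 1; rw [show m = ⟨z, hzC⟩ from Subtype.ext e, hfz])
        · exact Or.inr (by show f m = _; rw [show m = ⟨v', hv'C⟩ from Subtype.ext e])
        · exact Or.inr (by show f m = _; rw [show m = ⟨z, hzC⟩ * ⟨v', hv'C⟩ from Subtype.ext e, map_mul, hfz, one_mul])
      have hle : Nat.card ↥(pairStab ↥f.range p q) ≤
          ({1, f ⟨v', hv'C⟩} : Set (Equiv.Perm ↥(fix {z} : Set Ω))).ncard := by
        rw [← Nat.card_coe_set_eq]
        refine Nat.card_le_card_of_injective (fun y => (⟨((y : ↥f.range) : Equiv.Perm _), ?_⟩ :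
          ({1, f ⟨v', hv'C⟩} : Set (Equiv.Perm ↥(fix {z} : Set Ω))))) fun y y' e => ?_
        · rcases hsub y y.2 with e | e <;> simp [e]
        · simp only [Subtype.mk.injEq] at e
          exact Subtype.ext (Subtype.ext e)
      exact hle.trans ((Set.ncard_insert_le _ _).trans (by rw [Set.ncard_singleton]))
  set F : ↥(centralizer ({z} : Set G)) →* ↥f.range := f.rangeRestrict with hF
  have hord : ∀ h (hh : h ∈ pairStab G a b), orderOf h = 2 → orderOf (F ⟨h, hHC h hh⟩) = 2 := fun h hh ho =>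
    Invol.orderOf_eq_two_of (fun e => hker h hh ho (congrArg Subtype.val e))
      (by rw [← map_mul, show (⟨h, hHC h hh⟩ : ↥(centralizer ({z} : Set G))) * ⟨h, hHC h hh⟩ = 1 from
        Subtype.ext (Invol.inv_mul_self ho), map_one])
  have hconj : ∀ h (hh : h ∈ pairStab G a b), orderOf h = 2 →
      ∃ g : ↥f.range, g * F ⟨t, hHC t B.htH⟩ * g⁻¹ = F ⟨h, hHC h hh⟩ := fun h hh ho => by
    obtain ⟨m, hm, hme⟩ := B.toCtx.exists_conj B.htH hh B.ht ho
    exact ⟨F ⟨m, hHC m hm⟩, by rw [← map_inv, ← map_mul, ← map_mul]; exact congrArg F (Subtype.ext hme)⟩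
  refine P.false_four (hord t B.htH B.ht) (hord v B.hvH B.hv) ?_ ?_ (hconj v B.hvH B.hv) ?_
  · exact (show Commute (⟨t, hHC t B.htH⟩ : ↥(centralizer ({z} : Set G))) ⟨v, hHC v B.hvH⟩ from
      Subtype.ext B.commute_tv.eq).map F
  · intro e
    refine hker (t * v) (mul_mem B.htH B.hvH) B.orderOf_tv ?_
    have e' : f ⟨t, hHC t B.htH⟩ = f ⟨v, hHC v B.hvH⟩ := congrArg Subtype.val e
    rw [show (⟨t * v, hHC _ (mul_mem B.htH B.hvH)⟩ : ↥(centralizer ({z} : Set G))) =
      ⟨t, hHC t B.htH⟩ * ⟨v, hHC v B.hvH⟩ from rfl, map_mul, e', ← map_mul,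
      show (⟨v, hHC v B.hvH⟩ : ↥(centralizer ({z} : Set G))) * ⟨v, hHC v B.hvH⟩ = 1 from Subtype.ext B.hvv, map_one]
  · obtain ⟨g, hg⟩ := hconj (t * v) (mul_mem B.htH B.hvH) B.orderOf_tv
    exact ⟨g, by rw [hg, ← map_mul]; rfl⟩

end Base

end Cfsg.Lib.A5Stab
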