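import Cfsg.Agent.Lib.A5Stab.Counts
import Cfsg.Agent.Lib.Invol.AbelianCentralizers.Basic

/-!
# Odd degree with symmetric setwise stabilizer
-/

set_option autoImplicit false
set_option linter.style.haveILetI false
set_option linter.unusedSectionVars false

namespace Cfsg.Lib.A5Stab

open Subgroup MulAction
open Cfsg.Lib.A4Stab (pairStab mem_pairStab conj_smul fix mem_fix_singleton mem_fix_pair Swaps IsT
  eq_one_of_fix_univ smul_smul_of_sq card_fix_mod_two single_count exists_fixed_of_odd)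

universe u w

variable {G : Type u} [Group G] [Finite G] {Ω : Type w} [Finite Ω] [MulAction G Ω] [FaithfulSMul G Ω]

/-- A group of the given two-part has the Sylow subgroup with the given shape. -/
theorem twoCycDih_of_subgroup {X : Type u} [Group X] [Finite X] (K : Subgroup X) (hK : IsPGroup 2 K)
    (hmax : ¬ 2 * Nat.card K ∣ Nat.card X) (h : GW.CycDih K) : GW.TwoCycDih X := by
  haveI : Fact (Nat.Prime 2) := ⟨Nat.prime_two⟩
  obtain ⟨S, hS⟩ := hK.exists_le_sylow
  have e : (S : Subgroup X) = K := by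
    refine (eq_of_le_of_card_ge hS ?_).symm
    obtain ⟨m, hm⟩ := S.2.exists_card_eq
    obtain ⟨n, hn⟩ := hK.exists_card_eq
    by_contra hlt
    rw [hm, hn] at hlt
    refine hmax ?_
    have hnm : n + 1 ≤ m := by
      by_contra hc
      exact hlt (Nat.pow_le_pow_right two_pos (by omega))
    rw [hn, ← pow_succ']
    exact (pow_dvd_pow 2 hnm).trans (hm ▸ card_subgroup_dvd_card _)
  exact GW.TwoCycDih.of_sylow S (e ▸ h)

namespace Base

variable {a b : Ω} {t v : G}

/-- All involutions fix two points. -/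
theorem all_isT_outer (B : Base G a b t v) {u : G} (hu : Outer G a b t v u) {g : G} (hg : orderOf g = 2) :
    IsT G Ω g := by
  obtain ⟨p, hp⟩ : ∃ p : Ω, g • p ≠ p := by
    by_contra hc
    push Not at hc
    exact Invol.ne_one hg (eq_one_of_fix_univ hc)
  obtain ⟨k, hka, hkb⟩ := B.toCtx.two hp.symm B.toCtx.ne
  have hs : Swaps (k * g * k⁻¹) a b := ⟨by rw [← hka, conj_smul, hkb], by
    rw [← hkb, conj_smul, smul_smul_of_sq (Invol.inv_mul_self hg), hka]⟩
  have := ((B.outer_beta hu).1 _ (by rw [Invol.orderOf_conj_eq, hg]) hs).conj k⁻¹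
  rwa [show k⁻¹ * (k * g * k⁻¹) * k⁻¹⁻¹ = g by group] at this

/-- Any base has the same number of exchanging involutions. -/
theorem swap_count_eq (B : Base G a b t v) {c q : Ω} {v' : G} (B' : Base G c q t v') :
    {g | IsT G Ω g ∧ Swaps g c q}.ncard = {g | IsT G Ω g ∧ Swaps g a b}.ncard := by
  have h := B.count_eq
  rw [B'.count_eq] at h
  have h2 := B.two_le_fix₂.trans B.fix₂_le
  exact Nat.eq_of_mul_eq_mul_right (Nat.mul_pos (by omega) (by omega)) h

theorem stab_sixteen (B : Base G a b t v) (hN : {g | IsT G Ω g ∧ Swaps g a b}.ncard = 10)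
    (hk : ((fix {t} : Set Ω).ncard - 1) % 2 = 0) :
    Nat.card (stabilizer G a) = 4 * ((fix {t} : Set Ω).ncard - 1) * (15 + 10 * (fix {t} : Set Ω).ncard) := by
  obtain ⟨-, h2, -⟩ := B.cards
  have he := B.count_eq
  rw [hN] at he
  have hlt := B.fix_lt
  have hi : 2 ≤ (fix {t} : Set Ω).ncard := B.two_le_fix₂.trans B.fix₂_le
  obtain ⟨i', hi'⟩ : ∃ i', (fix {t} : Set Ω).ncard = i' + 1 := ⟨(fix {t} : Set Ω).ncard - 1, by omega⟩
  rw [h2, hi']
  rw [hi'] at he hlt
  simp only [Nat.add_sub_cancel] at he ⊢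
  have e : 4 * i' * (15 + 10 * (i' + 1)) = 60 * i' + 4 * (10 * ((i' + 1) * i')) := by ring
  rw [e, ← he]
  omega

/-- The case of degree seven. -/
theorem seven_of_eq (B : Base G a b t v) (hn : Nat.card Ω % 2 = 1)
    (hall : ∀ g : G, orderOf g = 2 → IsT G Ω g) (hN : {g | IsT G Ω g ∧ Swaps g a b}.ncard = 10)
    (hk : (fix {t} : Set Ω).ncard = (fix {t, v} : Set Ω).ncard) {u : G} (huu : u * u = 1) (hut : Commute u t)
    (hua : u • a = a) (huv : u * v * u⁻¹ = t * v) : Nat.card Ω = 7 := by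
  classical
  haveI : Fact (Nat.Prime 2) := ⟨Nat.prime_two⟩
  have hF : (fix {t, v} : Set Ω) = fix {t} := Set.eq_of_subset_of_ncard_le
    (fun p hp => mem_fix_singleton.2 (mem_fix_pair.1 hp).1) hk.le
  have hodd : (fix {t} : Set Ω).ncard % 2 = 1 := by rw [card_fix_mod_two B.ht, hn]
  have hnorm : ∀ k ∈ centralizer ({t} : Set G), k ∈ normalizer (fourAt G a b t : Set G) := fun k hk =>
    B.mem_normalizer_of_map hk (hF.symm ▸ fix_smul_centralizer (inv_mem hk) B.a_mem_fix)
      (hF.symm ▸ fix_smul_centralizer (inv_mem hk) B.b_mem_fix) (smul_inv_smul k a) (smul_inv_smul k b)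
  have huC : u ∈ centralizer ({t} : Set G) := mem_centralizer_singleton_iff.2 hut.eq
  have huF : u ∉ fourAt G a b t := fun h => by
    have h2 : Commute u v := by
      rcases B.four_cases h with e | e | e | e <;> rw [e]
      exacts [Commute.one_left v, B.commute_tv, B.commute_tv.mul_left (Commute.refl v)]
    rw [h2.eq, mul_inv_cancel_right] at huv
    exact Invol.ne_one B.ht (mul_eq_right.1 huv.symm)
  -- the elements inducing involutions on the fixed points of `t`
  set T := {g : G | g ∈ centralizer ({t} : Set G) ∧ g * g ∈ fourAt G a b t ∧ g ∉ fourAt G a b t}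
  have hsingle := single_count B.toCtx.ne (centralizer ({t} : Set G)) (fix {t}) B.a_mem_fix B.b_mem_fix
    (fun k hk p hp => fix_smul_centralizer hk hp)
    (fun p hp q hq hne => B.exists_centralizer_map hne (mem_fix_singleton.1 hp) (mem_fix_singleton.1 hq))
    T (fun g hg => hg.1)
    (fun k hk g hg => ⟨mul_mem (mul_mem hk hg.1) (inv_mem hk), by
      rw [show k * g * k⁻¹ * (k * g * k⁻¹) = k * (g * g) * k⁻¹ by group]
      exact (mem_normalizer_iff.1 (hnorm k hk) _).1 hg.2.1,
      fun h => hg.2.2 ((mem_normalizer_iff.1 (hnorm k hk) g).2 h)⟩)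
    (fun g hg => by
      have hsq : ∀ p ∈ (fix {t} : Set Ω), g • g • p = p := fun p hp => by
        rw [← mul_smul]; exact B.four_fix (hF.symm ▸ hp) hg.2.1
      refine ⟨hsq, le_antisymm ((Set.ncard_le_one (Set.toFinite _)).2 fun r hr s hs => ?_) ?_⟩
      · by_contra hrs
        exact hg.2.2 (B.mem_four_of_fix hg.1 hrs (hF.symm ▸ hr.1) (hF.symm ▸ hs.1)
          (mem_fix_singleton.1 hr.2) (mem_fix_singleton.1 hs.2))
      · obtain ⟨p, hp, hpg⟩ := exists_fixed_of_odd _ hodd (fun p hp => fix_smul_centralizer hg.1 hp) hsq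
        exact (Set.ncard_pos (Set.toFinite _)).2 ⟨p, hp, mem_fix_singleton.2 hpg⟩)
  have hT4 : {g | g ∈ T ∧ g • a = a}.ncard ≤ 4 := by
    rw [hsingle]
    rcases Set.eq_empty_or_nonempty {g | g ∈ T ∧ Swaps g a b} with e | ⟨g0, hg0⟩
    · rw [e, Set.ncard_empty]; norm_num
    refine (Set.ncard_le_ncard (t := (g0 * ·) '' ((fourAt G a b t : Subgroup G) : Set G)) fun g hg =>
      ⟨g0⁻¹ * g, ?_, mul_inv_cancel_left _ _⟩).trans ?_
    · refine mem_inf.2 ⟨mem_pairStab.2 ⟨?_, ?_⟩, mul_mem (inv_mem hg0.1.1) hg.1.1⟩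
      · rw [mul_smul, hg.2.1, inv_smul_eq_iff, hg0.2.1]
      · rw [mul_smul, hg.2.2, inv_smul_eq_iff, hg0.2.2]
    · rw [Set.ncard_image_of_injective _ (mul_right_injective g0), ← Nat.card_coe_set_eq]
      exact B.card_four.le
  have hTa : ∀ g ∈ T, g • a = a → ∃ y ∈ fourAt G a b t, g = u * y := by
    have hsub : (u * ·) '' ((fourAt G a b t : Subgroup G) : Set G) ⊆ {g | g ∈ T ∧ g • a = a} := by
      rintro _ ⟨y, hy, rfl⟩
      refine ⟨⟨mul_mem huC (mem_inf.1 hy).2, ?_, fun h => huF ((mul_mem_cancel_right hy).1 h)⟩, by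
        rw [mul_smul, (mem_pairStab.1 (mem_inf.1 hy).1).1, hua]⟩
      show u * y * (u * y) ∈ _
      rw [show u * y * (u * y) = u * y * u * y by group, show u * y * u = u * y * u⁻¹ by
        rw [inv_eq_of_mul_eq_one_right huu]]
      exact mul_mem ((mem_normalizer_iff.1 (hnorm u huC) y).1 hy) hy
    have h4 : ((u * ·) '' ((fourAt G a b t : Subgroup G) : Set G)).ncard = 4 := by
      rw [Set.ncard_image_of_injective _ (mul_right_injective u), ← Nat.card_coe_set_eq]
      exact B.card_four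
    intro g hg hga
    have : g ∈ (u * ·) '' ((fourAt G a b t : Subgroup G) : Set G) := by
      rw [Set.eq_of_subset_of_ncard_le hsub (hT4.trans h4.ge)]
      exact ⟨hg, hga⟩
    obtain ⟨y, hy, e⟩ := this
    exact ⟨y, hy, e.symm⟩
  -- the centralizer of the four group in the stabilizer
  set W := centralizer ({t, v} : Set G) ⊓ stabilizer G a with hW
  obtain ⟨-, -, -, h4, h8⟩ := B.cards
  have hWle : W ≤ centralizer ({t} : Set G) ⊓ stabilizer G a :=
    inf_le_inf_right _ (centralizer_le (by simp))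
  have huW : u ∉ W := fun h => by
    have h2 : Commute u v := (mem_centralizer_iff.1 (mem_inf.1 h).1 v (by simp)).symm
    rw [h2.eq, mul_inv_cancel_right] at huv
    exact Invol.ne_one B.ht (mul_eq_right.1 huv.symm)
  have hW2 : 2 * Nat.card W = 4 * ((fix {t} : Set Ω).ncard - 1) := by
    rcases B.card_pair_cases with h | h
    · exfalso
      refine huW ((eq_of_le_of_card_ge hWle (by rw [h4, hW, h, hk])).symm ▸ mem_inf.2 ⟨huC, hua⟩)
    · rw [hW, h, hk]
  have hW4 : 4 ∣ Nat.card W := B.four_dvd_pair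
  have hVW : fourAt G a b t ≤ W := by
    intro y hy
    refine mem_inf.2 ⟨?_, (mem_inf.1 hy).1.1⟩
    rw [A4Stab.centralizer_pair]
    refine mem_inf.2 ⟨(mem_inf.1 hy).2, mem_centralizer_singleton_iff.2 ?_⟩
    rcases B.four_cases hy with e | e | e | e <;> rw [e]
    exacts [(one_mul v).trans (mul_one v).symm, B.commute_tv.eq, (B.commute_tv.mul_left (Commute.refl v)).eq]
  have hW8 : ¬ 8 ∣ Nat.card W := by
    intro h
    obtain ⟨K, hK, hVK⟩ := Sylow.exists_subgroup_card_pow_succ (p := 2) (n := 2) (G := W) (by norm_num; exact h)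
      (H := (fourAt G a b t).subgroupOf W) (by rw [Nat.card_congr (subgroupOfEquivOfLe hVW).toEquiv, B.card_four]; norm_num)
    have hidx : (((fourAt G a b t).subgroupOf W).subgroupOf K).index = 2 := by
      have h' := (((fourAt G a b t).subgroupOf W).subgroupOf K).card_mul_index
      rw [Nat.card_congr (subgroupOfEquivOfLe hVK).toEquiv, Nat.card_congr (subgroupOfEquivOfLe hVW).toEquiv,
        B.card_four, hK] at h'
      omega
    obtain ⟨g, hg⟩ : ∃ g : K, g ∉ ((fourAt G a b t).subgroupOf W).subgroupOf K := by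
      by_contra hc
      push Not at hc
      rw [index_eq_one.2 (eq_top_iff.2 fun g _ => hc g)] at hidx
      omega
    have hgg := mul_self_mem_of_index_two hidx g
    obtain ⟨y, hy, e⟩ := hTa ((g : W) : G) ⟨(hWle (g : W).2).1, hgg, hg⟩ (mem_inf.1 (g : W).2).2
    refine huW ?_
    have := mul_mem (g : W).2 (hVW (inv_mem hy))
    rwa [e, mul_inv_cancel_right] at this
  -- the Sylow subgroup of the stabilizer
  set W' := centralizer ({t} : Set G) ⊓ stabilizer G a with hW'
  have hVW' : fourAt G a b t ≤ W' := hVW.trans hWle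
  have hk2 : ((fix {t} : Set Ω).ncard - 1) % 4 = 2 := by omega
  obtain ⟨K, hK, hVK⟩ := Sylow.exists_subgroup_card_pow_succ (p := 2) (n := 2) (G := W') (by rw [h4]; norm_num; omega)
    (H := (fourAt G a b t).subgroupOf W') (by rw [Nat.card_congr (subgroupOfEquivOfLe hVW').toEquiv, B.card_four]; norm_num)
  set K' := K.map W'.subtype with hK'
  have hK'8 : Nat.card K' = 8 := by rw [card_map_of_injective W'.subtype_injective, hK]; norm_num
  have hK'M : K' ≤ stabilizer G a := (map_subtype_le K).trans inf_le_right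
  have hVK' : fourAt G a b t ≤ K' := fun y hy => ⟨⟨y, hVW' hy⟩, hVK hy, rfl⟩
  have hidx : ((fourAt G a b t).subgroupOf K').index = 2 := by
    have h' := ((fourAt G a b t).subgroupOf K').card_mul_index
    rw [Nat.card_congr (subgroupOfEquivOfLe hVK').toEquiv, B.card_four, hK'8] at h'
    omega
  have hcase : ∀ g ∈ K', g ∈ fourAt G a b t ∨ ∃ y ∈ fourAt G a b t, g = u * y := by
    intro g hg
    by_cases hgV : g ∈ fourAt G a b t
    · exact Or.inl hgV
    · exact Or.inr (hTa g ⟨((map_subtype_le K) hg).1, mul_self_mem_of_index_two hidx ⟨g, hg⟩, hgV⟩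
        ((map_subtype_le K) hg).2)
  have huK : u ∈ K' := by
    obtain ⟨g, hg⟩ : ∃ g : K', g ∉ (fourAt G a b t).subgroupOf K' := by
      by_contra hc
      push Not at hc
      rw [index_eq_one.2 (eq_top_iff.2 fun g _ => hc g)] at hidx
      omega
    rcases hcase g g.2 with h | ⟨y, hy, e⟩
    · exact absurd h hg
    · have := mul_mem g.2 (hVK' (inv_mem hy))
      rwa [e, mul_inv_cancel_right] at this
  have huv2 : u * v * (u * v) = t := by
    rw [show u * v * (u * v) = u * v * u * v by group, show u * v * u = t * v by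
      rw [inv_eq_of_mul_eq_one_right huu] at huv; exact huv, mul_assoc, B.hvv, mul_one]
  set M := stabilizer G a with hM
  have hCD : GW.CycDih ↥(K'.subgroupOf M) := by
    refine GW.CycDih.of_equiv (subgroupOfEquivOfLe hK'M) ?_
    set r : K' := ⟨u * v, mul_mem huK (hVK' B.v_mem_four)⟩
    have hr2 : (r * r : K') ≠ 1 := fun h => Invol.ne_one B.ht (huv2.symm.trans (congrArg Subtype.val h))
    have hr4 : orderOf r = 4 := by
      refine orderOf_eq_prime_pow (p := 2) (n := 1) ?_ ?_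
      · rw [pow_one, pow_two]; exact hr2
      · rw [show 2 ^ (1 + 1) = 2 * 2 from rfl, pow_mul, pow_two, pow_two]
        exact Subtype.ext (show u * v * (u * v) * (u * v * (u * v)) = 1 by rw [huv2, B.htt])
    refine ⟨zpowers r, inferInstance, ?_, fun x hx => ?_⟩
    · have h' := (zpowers r).card_mul_index
      rw [Nat.card_zpowers, hr4, hK'8] at h'
      omega
    · refine Subtype.ext ?_
      show (x : G) * x = 1
      rcases hcase x x.2 with h | ⟨y, hy, e⟩
      · exact B.four_sq h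
      · rcases B.four_cases hy with e' | e' | e' | e' <;> rw [e'] at e
        · rw [e, mul_one, huu]
        · rw [e, hut.symm.mul_mul_mul_comm, huu, B.htt, one_mul]
        · exact absurd (show x ∈ zpowers r from (Subtype.ext e.symm : r = x) ▸ mem_zpowers r) hx
        · refine absurd ?_ hx
          have : x = r * (r * r) := Subtype.ext (show (x : G) = u * v * (u * v * (u * v)) by
            rw [huv2, e, B.commute_tv.eq, mul_assoc])
          rw [this]
          exact mul_mem (mem_zpowers r) (mul_mem (mem_zpowers r) (mem_zpowers r))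
  have hMcard := B.stab_sixteen hN (by omega)
  have hD : GW.TwoCycDih ↥M := by
    refine twoCycDih_of_subgroup (K'.subgroupOf M)
      (IsPGroup.of_card (n := 3) (by rw [Nat.card_congr (subgroupOfEquivOfLe hK'M).toEquiv, hK'8]; norm_num)) ?_ hCD
    rw [Nat.card_congr (subgroupOfEquivOfLe hK'M).toEquiv, hK'8, hMcard]
    obtain ⟨i, hi⟩ : ∃ i, (fix {t} : Set Ω).ncard - 1 = 4 * i + 2 := ⟨((fix {t} : Set Ω).ncard - 1) / 4, by omega⟩
    rw [hi, show 4 * (4 * i + 2) = 8 * (2 * i + 1) by ring, mul_assoc 8]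
    rintro ⟨j, hj⟩
    have h' : (2 * i + 1) * (15 + 10 * (fix {t} : Set Ω).ncard) = 2 * j := by linarith
    have := congrArg (· % 2) h'
    simp [Nat.mul_mod, Nat.add_mod] at this
  have he := B.count_eq
  rcases B.local_stab hD (fun g _ hg => hall g hg) with ⟨μ, s, D, hs, hD', hμ, h5, h6, h7⟩ | ⟨-, -, d, s, hs, h6, h5, h7⟩
  · rw [hN] at he h7
    rw [← hW] at h5
    have hμs : μ * s = 2 := by
      refine Nat.eq_of_mul_eq_mul_right (show 0 < D from hD'.pos) ?_
      omega
    have hs1 : s = 1 := by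
      have hsle : s ≤ 2 := Nat.le_of_dvd two_pos ⟨μ, by rw [mul_comm, hμs]⟩
      obtain ⟨j, rfl⟩ := hs
      omega
    subst hs1
    rw [mul_one] at hμs
    subst hμs
    have hk3 : (fix {t} : Set Ω).ncard = 3 := by omega
    rw [hk3] at he
    omega
  · rw [hN] at h7
    rw [← hW] at h5
    exfalso
    obtain ⟨j, rfl⟩ := hs
    rcases j with _ | j
    · omega
    · have : d * (2 * (j + 1) + 1) ≥ d * 3 := Nat.mul_le_mul_left d (by omega)
      omega

/-- The square roots of `t` in its centralizer fixing a point. -/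
theorem sqrt_at (B : Base G a b t v) (hn : Nat.card Ω % 2 = 1)
    (hN : {g | IsT G Ω g ∧ Swaps g a b}.ncard = 10) {z : G} (hzt : Commute z t) (hz2 : z * z = t)
    (hza : z • a = a) :
    (∀ g : G, Commute g t → g * g = t → g • a = a → g = z ∨ g = z * t) ∧ v * z * v⁻¹ = z * t := by
  classical
  have hodd : (fix {t} : Set Ω).ncard % 2 = 1 := by rw [card_fix_mod_two B.ht, hn]
  have ht1 := Invol.ne_one B.ht
  set L := {g : G | Commute g t ∧ g * g = t}
  have hsingle := single_count B.toCtx.ne (centralizer ({t} : Set G)) (fix {t}) B.a_mem_fix B.b_mem_fix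
    (fun k hk p hp => fix_smul_centralizer hk hp)
    (fun p hp q hq hne => B.exists_centralizer_map hne (mem_fix_singleton.1 hp) (mem_fix_singleton.1 hq))
    L (fun g hg => mem_centralizer_singleton_iff.2 hg.1.eq)
    (fun k hk g hg => by
      have hkt := conj_t_eq hk
      refine ⟨?_, ?_⟩
      · have := hg.1.map (MulAut.conj k)
        simpa [hkt] using this
      · rw [show k * g * k⁻¹ * (k * g * k⁻¹) = k * (g * g) * k⁻¹ by group, hg.2, hkt])
    (fun g hg => by
      have hsq : ∀ p ∈ (fix {t} : Set Ω), g • g • p = p := fun p hp => by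
        rw [← mul_smul, hg.2]; exact mem_fix_singleton.1 hp
      refine ⟨hsq, le_antisymm ((Set.ncard_le_one (Set.toFinite _)).2 fun r hr s hs => ?_) ?_⟩
      · by_contra hrs
        exact ht1 (hg.2.symm.trans (B.sq_of_fix_two (mem_centralizer_singleton_iff.2 hg.1.eq) hrs
          (mem_fix_singleton.1 hr.1) (mem_fix_singleton.1 hs.1) (mem_fix_singleton.1 hr.2) (mem_fix_singleton.1 hs.2)))
      · obtain ⟨p, hp, hpg⟩ := exists_fixed_of_odd _ hodd
          (fun p hp => fix_smul_centralizer (mem_centralizer_singleton_iff.2 hg.1.eq) hp) hsq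
        exact (Set.ncard_pos (Set.toFinite _)).2 ⟨p, hp, mem_fix_singleton.2 hpg⟩)
  obtain ⟨u, hu⟩ : ∃ u, Outer G a b t v u := by
    refine B.dichotomy.resolve_left ?_
    rintro ⟨x, hx⟩
    rcases B.central_beta hx with ⟨-, -, h⟩ | ⟨-, -, h⟩ | ⟨-, -, h⟩ <;> rw [hN] at h <;> omega
  have h2 : {g | g ∈ L ∧ g • a = a}.ncard ≤ 2 := by
    rw [hsingle]
    refine (Set.ncard_le_ncard (t := ({u * v, u * (t * v)} : Set G)) ?_).trans
      ((Set.ncard_insert_le _ _).trans (by rw [Set.ncard_singleton]))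
    rintro g ⟨⟨hgt, hg2⟩, hgs⟩
    obtain ⟨y, hy, rfl⟩ := B.swap_mul_four hu.ord hu.swaps hu.comm hgs hgt
    have huu := Invol.inv_mul_self hu.ord
    rcases B.four_cases hy with e | e | e | e <;> rw [e] at hg2 ⊢
    · rw [mul_one, huu] at hg2; exact absurd hg2.symm ht1
    · rw [hu.comm.symm.mul_mul_mul_comm, huu, B.htt, one_mul] at hg2; exact absurd hg2.symm ht1
    · exact Or.inl rfl
    · exact Or.inr rfl
  have hta : t • a = a := mem_fix_singleton.1 B.a_mem_fix
  have hzt2 : z * t * (z * t) = t := by rw [hzt.symm.mul_mul_mul_comm, hz2, B.htt, mul_one]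
  have hroots : ∀ g : G, Commute g t → g * g = t → g • a = a → g = z ∨ g = z * t := by
    intro g hgt hg2 hga
    by_contra hc
    push Not at hc
    have hsub : ({z, z * t, g} : Set G) ⊆ {g | g ∈ L ∧ g • a = a} := by
      rintro x (rfl | rfl | rfl)
      exacts [⟨⟨hzt, hz2⟩, hza⟩, ⟨⟨hzt.mul_left (Commute.refl t), hzt2⟩, by rw [mul_smul, hta, hza]⟩, ⟨⟨hgt, hg2⟩, hga⟩]
    have h3 : ({z, z * t, g} : Set G).ncard = 3 := by
      rw [Set.ncard_insert_of_notMem, Set.ncard_pair hc.2.symm]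
      rintro (e | e)
      · exact ht1 (mul_eq_left.1 e.symm)
      · exact hc.1 (Set.mem_singleton_iff.1 e).symm
    have := (Set.ncard_le_ncard hsub).trans h2
    omega
  refine ⟨hroots, ?_⟩
  have hvt : v * t * v⁻¹ = t := by rw [← B.commute_tv.eq, mul_inv_cancel_right]
  have hva : v • a = a := B.hvH.1
  rcases hroots (v * z * v⁻¹) (by
      have := hzt.map (MulAut.conj v)
      simpa [hvt] using this)
    (by rw [show v * z * v⁻¹ * (v * z * v⁻¹) = v * (z * z) * v⁻¹ by group, hz2, hvt])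
    (by rw [mul_smul, mul_smul, inv_smul_eq_iff.2 hva.symm, hza, hva]) with e | e
  · exfalso
    have hc : Commute v z := mul_inv_eq_iff_eq_mul.1 e
    rcases hroots (z * v) (hzt.mul_left B.commute_tv.symm)
      (by rw [hc.mul_mul_mul_comm, hz2, B.hvv, mul_one]) (by rw [mul_smul, hva, hza]) with e' | e'
    · exact Invol.ne_one B.hv (mul_eq_left.1 e')
    · exact B.htv (mul_left_cancel e').symm
  · exact e

/-- The square case is impossible. -/
theorem false_of_sq (B : Base G a b t v) (hn : Nat.card Ω % 2 = 1)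
    (hall : ∀ g : G, orderOf g = 2 → IsT G Ω g) (hN : {g | IsT G Ω g ∧ Swaps g a b}.ncard = 10)
    (hk : (fix {t} : Set Ω).ncard = (fix {t, v} : Set Ω).ncard * (fix {t, v} : Set Ω).ncard)
    {z : G} (hzt : Commute z t) (hz2 : z * z = t) (hza : z • a = a) : False := by
  classical
  haveI : Fact (Nat.Prime 2) := ⟨Nat.prime_two⟩
  obtain ⟨hroots, hvz⟩ := B.sqrt_at hn hN hzt hz2 hza
  have ht1 := Invol.ne_one B.ht
  have hta : t • a = a := mem_fix_singleton.1 B.a_mem_fix
  have hQ2 := B.two_le_fix₂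
  have hQodd : (fix {t, v} : Set Ω).ncard % 2 = 1 := by
    have h1 := card_fix_mod_two (Ω := Ω) B.ht
    rw [hn, hk, Nat.mul_mod] at h1
    rcases Nat.mod_two_eq_zero_or_one (fix {t, v} : Set Ω).ncard with h | h
    · rw [h] at h1; omega
    · exact h
  set W := centralizer ({t} : Set G) ⊓ stabilizer G a with hW
  have hzW : z ∈ W := mem_inf.2 ⟨mem_centralizer_singleton_iff.2 hzt.eq, hza⟩
  have hvW : v ∈ W := mem_inf.2 ⟨(mem_inf.1 B.v_mem_four).2, B.hvH.1⟩
  have hzo : IsPGroup 2 (zpowers (⟨z, hzW⟩ : W)) := by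
    intro x
    obtain ⟨i, hi⟩ := mem_zpowers_iff.1 x.2
    refine ⟨2, Subtype.ext ?_⟩
    rw [SubmonoidClass.coe_pow, ← hi, ← zpow_natCast, ← zpow_mul, mul_comm, zpow_mul, zpow_natCast,
      show (⟨z, hzW⟩ : W) ^ (2 ^ 2) = 1 from Subtype.ext (by
        rw [SubmonoidClass.coe_pow, show 2 ^ 2 = 2 * 2 from rfl, pow_mul, pow_two, pow_two, hz2, B.htt]; rfl),
      one_zpow, OneMemClass.coe_one]
  have hvo : IsPGroup 2 (zpowers (⟨v, hvW⟩ : W)) := IsPGroup.of_card (n := 1)
    (by rw [Nat.card_zpowers, Subgroup.orderOf_mk, B.hv, pow_one])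
  haveI : (zpowers (⟨z, hzW⟩ : W)).Normal := ⟨fun x hx g => by
    obtain ⟨i, rfl⟩ := mem_zpowers_iff.1 hx
    rw [← conj_zpow]
    refine zpow_mem ?_ i
    obtain ⟨g, hg⟩ := g
    obtain ⟨hgt, hga⟩ := mem_inf.1 hg
    have hga' : g • a = a := hga
    have hgt' := conj_t_eq hgt
    rcases hroots (g * z * g⁻¹) (by
        have := hzt.map (MulAut.conj g)
        simpa [hgt'] using this)
      (by rw [show g * z * g⁻¹ * (g * z * g⁻¹) = g * (z * z) * g⁻¹ by group, hz2, hgt'])
      (by rw [mul_smul, mul_smul, inv_smul_eq_iff.2 hga'.symm, hza, hga']) with e | e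
    · rw [show (⟨g, hg⟩ : W) * ⟨z, hzW⟩ * ⟨g, hg⟩⁻¹ = ⟨z, hzW⟩ from Subtype.ext e]
      exact mem_zpowers _
    · rw [show (⟨g, hg⟩ : W) * ⟨z, hzW⟩ * ⟨g, hg⟩⁻¹ = ⟨z, hzW⟩ * (⟨z, hzW⟩ * ⟨z, hzW⟩) from
        Subtype.ext (e.trans (by show z * t = z * (z * z); rw [hz2]))]
      exact mul_mem (mem_zpowers _) (mul_mem (mem_zpowers _) (mem_zpowers _))⟩
  obtain ⟨S, hS⟩ := (hzo.to_sup_of_normal_left hvo).exists_le_sylow
  have hzS : (⟨z, hzW⟩ : W) ∈ (S : Subgroup W) := hS (mem_sup_left (mem_zpowers _))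
  have hvS : (⟨v, hvW⟩ : W) ∈ (S : Subgroup W) := hS (mem_sup_right (mem_zpowers _))
  set K := (S : Subgroup W).map W.subtype with hKdef
  have hKW : K ≤ W := map_subtype_le _
  have hKp : IsPGroup 2 K := S.2.map _
  have hzK : z ∈ K := ⟨_, hzS, rfl⟩
  have hvK : v ∈ K := ⟨_, hvS, rfl⟩
  have hconj : ∀ g ∈ K, g * z * g⁻¹ = z ∨ g * z * g⁻¹ = z * t := by
    intro g hg
    obtain ⟨hgt, hga⟩ := mem_inf.1 (hKW hg)
    have hga' : g • a = a := hga
    have hgt' := conj_t_eq hgt
    exact hroots (g * z * g⁻¹) (by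
        have := hzt.map (MulAut.conj g)
        simpa [hgt'] using this)
      (by rw [show g * z * g⁻¹ * (g * z * g⁻¹) = g * (z * z) * g⁻¹ by group, hz2, hgt'])
      (by rw [mul_smul, mul_smul, inv_smul_eq_iff.2 hga'.symm, hza, hga'])
  set R := (centralizer ({z} : Set G)).subgroupOf K with hR
  have hmemR : ∀ g : K, g ∈ R ↔ (g : G) * z * (g : G)⁻¹ = z := fun g => by
    rw [hR, mem_subgroupOf, mem_centralizer_singleton_iff, mul_inv_eq_iff_eq_mul]
  have hvnR : (⟨v, hvK⟩ : K) ∉ R := fun h => by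
    have := (hmemR _).1 h
    rw [hvz] at this
    exact ht1 (mul_eq_left.1 this)
  have hidx : R.index = 2 := by
    rw [index_eq_two_iff]
    refine ⟨⟨v, hvK⟩, fun g => ?_⟩
    rcases hconj g g.2 with e | e
    · exact Or.inr ⟨(hmemR g).2 e, fun h => hvnR ((mul_mem_cancel_left ((hmemR g).2 e)).1 h)⟩
    · refine Or.inl ⟨(hmemR _).2 ?_, fun h => ht1 (mul_eq_left.1 (e.symm.trans ((hmemR g).1 h)))⟩
      show (g : G) * v * z * ((g : G) * v)⁻¹ = z
      rw [show (g : G) * v * z * ((g : G) * v)⁻¹ = (g : G) * (v * z * v⁻¹) * (g : G)⁻¹ by group, hvz,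
        show (g : G) * (z * t) * (g : G)⁻¹ = ((g : G) * z * (g : G)⁻¹) * ((g : G) * t * (g : G)⁻¹) by group, e,
        conj_t_eq (mem_inf.1 (hKW g.2)).1, mul_assoc, B.htt, mul_one]
  have huniq : ∀ i : K, i ∈ R → i * i = 1 → i = 1 ∨ (i : G) = t := by
    intro i hiR hi2
    have hiz : Commute (i : G) z := mul_inv_eq_iff_eq_mul.1 ((hmemR i).1 hiR)
    obtain ⟨hit, hia⟩ := mem_inf.1 (hKW i.2)
    have hia' : (i : G) • a = a := hia
    have hii : (i : G) * i = 1 := congrArg Subtype.val hi2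
    rcases hroots ((i : G) * z) ((show Commute (i : G) t from mem_centralizer_singleton_iff.1 hit).mul_left hzt)
      (by rw [hiz.symm.mul_mul_mul_comm, hii, hz2, one_mul]) (by rw [mul_smul, hza, hia']) with e | e
    · exact Or.inl (Subtype.ext (mul_eq_right.1 e))
    · rw [hzt.eq] at e
      exact Or.inr (mul_right_cancel e)
  have hout : ∀ x : K, x ∉ R → x * x = 1 := by
    intro x hxR
    by_contra hx2
    obtain ⟨m, hm⟩ := IsPGroup.iff_orderOf.1 hKp x
    obtain ⟨m', rfl⟩ : ∃ m', m = m' + 2 := ⟨m - 2, by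
      by_contra hc
      refine hx2 ?_
      rw [← pow_two]
      exact orderOf_dvd_iff_pow_eq_one.1 (hm ▸ (pow_dvd_pow 2 (show m ≤ 1 by omega)).trans (by norm_num))⟩
    set h := x ^ (2 ^ m') with hh
    have hi2 : h * h * (h * h) = 1 := by
      rw [hh, ← pow_add, ← pow_add, show 2 ^ m' + 2 ^ m' + (2 ^ m' + 2 ^ m') = 2 ^ (m' + 2) by ring, ← hm,
        pow_orderOf_eq_one]
    have hi1 : h * h ≠ 1 := by
      rw [hh, ← pow_add, show 2 ^ m' + 2 ^ m' = 2 ^ (m' + 1) by ring]
      exact pow_ne_one_of_lt_orderOf (by positivity) (by rw [hm]; exact Nat.pow_lt_pow_right (by norm_num) (by omega))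
    rcases huniq (h * h) (mul_self_mem_of_index_two hidx h) hi2 with e | e
    · exact hi1 e
    · obtain ⟨hht, hha⟩ := mem_inf.1 (hKW h.2)
      refine hxR ((hmemR x).2 (mul_inv_eq_iff_eq_mul.2 ?_))
      have hcx : Commute (x : G) h := by
        have := ((Commute.refl x).pow_right (2 ^ m')).map K.subtype
        exact this
      rcases hroots h (mem_centralizer_singleton_iff.1 hht) e hha with e' | e'
      · rwa [e'] at hcx
      · rw [e'] at hcx
        have hxt : Commute (x : G) t := mem_centralizer_singleton_iff.1 (mem_inf.1 (hKW x.2)).1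
        have := hcx.mul_right hxt
        rwa [mul_assoc, B.htt, mul_one] at this
  have hab : ∀ r s : R, r * s = s * r := by
    intro r s
    refine Subtype.ext ?_
    show (r : K) * s = s * r
    have h1 := GW.CycDih.inverts hout hvnR r.2
    have h2 := GW.CycDih.inverts hout hvnR s.2
    have h3 := GW.CycDih.inverts hout hvnR (mul_mem r.2 s.2)
    rw [show (⟨v, hvK⟩ : K) * ((r : K) * s) * (⟨v, hvK⟩ : K)⁻¹ =
      ((⟨v, hvK⟩ : K) * r * (⟨v, hvK⟩ : K)⁻¹) * ((⟨v, hvK⟩ : K) * s * (⟨v, hvK⟩ : K)⁻¹) by group, h1, h2,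
      ← mul_inv_rev] at h3
    exact (inv_injective h3).symm
  have hcyc : IsCyclic R := by
    letI : CommGroup R := { (inferInstance : Group R) with mul_comm := hab }
    refine Cfsg.Lib.Invol.AC.isCyclic_of_unique_invol (hKp.to_subgroup R) fun x y hx hy => ?_
    have hx' : orderOf (x : K) = 2 := by rw [Subgroup.orderOf_coe, hx]
    have hy' : orderOf (y : K) = 2 := by rw [Subgroup.orderOf_coe, hy]
    have ex := (huniq x x.2 (Invol.inv_mul_self hx')).resolve_left (Invol.ne_one hx')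
    have ey := (huniq y y.2 (Invol.inv_mul_self hy')).resolve_left (Invol.ne_one hy')
    exact Subtype.ext (Subtype.ext (ex.trans ey.symm))
  have hCD : GW.CycDih K := ⟨R, hcyc, hidx.le, hout⟩
  set M := stabilizer G a with hM
  have hKM : K ≤ M := hKW.trans inf_le_right
  have hodd' : Odd (15 + 10 * (fix {t} : Set Ω).ncard) := ⟨7 + 5 * (fix {t} : Set Ω).ncard, by ring⟩
  obtain ⟨-, -, -, h4, -⟩ := B.cards
  have hkodd : ((fix {t} : Set Ω).ncard - 1) % 2 = 0 := by
    have h1 := card_fix_mod_two (Ω := Ω) B.ht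
    omega
  have hD : GW.TwoCycDih ↥M := by
    refine twoCycDih_of_subgroup (K.subgroupOf M) (hKp.of_equiv (subgroupOfEquivOfLe hKM).symm) ?_
      (GW.CycDih.of_equiv (subgroupOfEquivOfLe hKM) hCD)
    rw [Nat.card_congr (subgroupOfEquivOfLe hKM).toEquiv, hKdef, card_map_of_injective W.subtype_injective,
      B.stab_sixteen hN hkodd, ← h4, ← hW]
    intro hd
    obtain ⟨j, hj⟩ := S.2.exists_card_eq
    rw [hj, ← pow_succ'] at hd
    have h1 : 2 ^ (j + 1) ∣ Nat.card W :=
      (Nat.Coprime.pow_left _ (Nat.coprime_two_left.2 hodd')).dvd_of_dvd_mul_right hd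
    have h2 := S.pow_dvd_card_of_pow_dvd_card h1
    rw [hj, Nat.pow_dvd_pow_iff_le_right (by norm_num)] at h2
    omega
  rcases B.local_stab hD (fun g _ hg => hall g hg) with ⟨μ, s, D, hs, hD', hμ, h5, h6, h7⟩ | ⟨-, h16, d, s, hs, h6, -, -⟩
  · rw [hN, hk] at h7
    rw [hk] at h6
    set Q := (fix {t, v} : Set Ω).ncard
    have hDQ : 2 * D = Q - 1 := by
      rcases B.card_pair_cases with h | h <;> rw [h5] at h
      · exfalso
        obtain ⟨j, rfl⟩ := hD'
        omega
      · omega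
    have hx : μ * s = 2 * (Q + 1) := by
      refine Nat.eq_of_mul_eq_mul_right (show 0 < D from hD'.pos) ?_
      rw [← h6]
      obtain ⟨Q', hQ'⟩ : ∃ Q', Q = Q' + 1 := ⟨Q - 1, by omega⟩
      have hQD : Q' = 2 * D := by omega
      rw [hQ', hQD, show (2 * D + 1) * (2 * D + 1) - 1 = 4 * D * D + 4 * D by
        rw [show (2 * D + 1) * (2 * D + 1) = 4 * D * D + 4 * D + 1 by ring, Nat.add_sub_cancel]]
      ring
    have hμe : 2 * s ≤ μ * s := by
      refine Nat.mul_le_mul_right s ?_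
      by_contra hc
      obtain ⟨j, rfl⟩ := hs
      rw [show μ = 1 by omega] at hx
      omega
    obtain ⟨ν, rfl⟩ : ∃ ν, μ = ν + 2 := ⟨μ - 2, by
      have := Nat.le_of_mul_le_mul_right hμe hs.pos
      omega⟩
    rw [show 4 * (ν + 2) - 1 = 4 * ν + 7 by omega, show 2 * (ν + 2) - 1 = 2 * ν + 3 by omega] at h7
    have hsq : (ν + 2) * s * ((ν + 2) * s) = 2 * (Q + 1) * (2 * (Q + 1)) := by rw [hx]
    rcases h7 with h7 | h7 <;> nlinarith [h7, hsq, hQ2, Nat.zero_le (s * s * ν), Nat.zero_le (s * s * (ν * ν))]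
  · obtain ⟨-, h2, -⟩ := B.cards
    refine h16 ?_
    rw [← h2, B.stab_sixteen hN hkodd]
    refine dvd_mul_of_dvd_left ?_ _
    obtain ⟨Q', hQ'⟩ : ∃ Q', (fix {t, v} : Set Ω).ncard = 2 * Q' + 1 := ⟨(fix {t, v} : Set Ω).ncard / 2, by omega⟩
    rw [hk, hQ', show (2 * Q' + 1) * (2 * Q' + 1) - 1 = 4 * (Q' * (Q' + 1)) by
      rw [show (2 * Q' + 1) * (2 * Q' + 1) = 4 * (Q' * (Q' + 1)) + 1 by ring, Nat.add_sub_cancel]]
    obtain ⟨i, hi⟩ := (Nat.even_mul_succ_self Q').two_dvd
    exact ⟨2 * i, by rw [hi]; ring⟩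

/-- Odd degree in the symmetric shape: seven points. -/
theorem seven_of_outer (B : Base G a b t v) (hn : Nat.card Ω % 2 = 1) {u : G} (hu : Outer G a b t v u) :
    Nat.card Ω = 7 := by
  classical
  have hall := fun g hg => B.all_isT_outer hu (g := g) hg
  obtain ⟨-, hN⟩ := B.outer_beta hu
  obtain ⟨hsq1, -⟩ := B.outer_sq hu
  have huu := Invol.inv_mul_self hu.ord
  rcases B.outer_beta₂ hu with h | h
  · have hk := B.fix_cases.1 h
    have hF2 : (fix {t, v} : Set Ω).ncard % 2 = 1 := by rw [← hk, card_fix_mod_two B.ht, hn]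
    have hsim : u * (t * v) * u⁻¹ = v := by
      rw [← hu.moves, Invol.inv_eq_self hu.ord]
      rw [show u * (u * v * u) * u = (u * u) * v * (u * u) by group, huu, one_mul, mul_one]
    obtain ⟨c, hc, hcu⟩ := exists_fixed_of_odd (g := u) (fix {t, v} : Set Ω) hF2
      (fun p hp => by
        obtain ⟨h1, h2⟩ := mem_fix_pair.1 hp
        refine mem_fix_pair.2 ⟨by rw [← mul_smul, ← hu.comm.eq, mul_smul, h1], ?_⟩
        rw [← hsim, conj_smul, mul_smul, h2, h1])
      (fun p _ => smul_smul_of_sq huu p)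
    obtain ⟨q, hcq, hq⟩ : ∃ q, c ≠ q ∧ q ∈ (fix {t, v} : Set Ω) := by
      rcases eq_or_ne c a with e | e
      · exact ⟨b, e ▸ B.toCtx.ne, B.b_mem_fix₂⟩
      · exact ⟨a, e, B.a_mem_fix₂⟩
    have B' := B.change hcq hc hq
    exact B'.seven_of_eq hn hall ((B.swap_count_eq B').trans hN) hk huu hu.comm hcu hu.moves
  · exfalso
    have hk := B.fix_cases.2.1 h
    have hodd : (fix {t} : Set Ω).ncard % 2 = 1 := by rw [card_fix_mod_two B.ht, hn]
    have hzt : Commute (u * v) t := hu.comm.mul_left B.commute_tv.symm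
    obtain ⟨c, hc, hcz⟩ := exists_fixed_of_odd (g := u * v) (fix {t} : Set Ω) hodd
      (fun p hp => fix_smul_centralizer (mem_centralizer_singleton_iff.2 hzt.eq) hp)
      (fun p hp => by rw [← mul_smul, hsq1]; exact mem_fix_singleton.1 hp)
    obtain ⟨q, hcq, hq⟩ : ∃ q, c ≠ q ∧ q ∈ (fix {t} : Set Ω) := by
      rcases eq_or_ne c a with e | e
      · exact ⟨b, e ▸ B.toCtx.ne, B.b_mem_fix⟩
      · exact ⟨a, e, B.a_mem_fix⟩
    obtain ⟨v', B'⟩ := exists_base_of (B.toCtx.change hcq)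
      (mem_pairStab.2 ⟨mem_fix_singleton.1 hc, mem_fix_singleton.1 hq⟩) B.ht
    have hN' := (B.swap_count_eq B').trans hN
    have hk' : (fix {t} : Set Ω).ncard = (fix {t, v'} : Set Ω).ncard * (fix {t, v'} : Set Ω).ncard := by
      obtain ⟨k, hkC, hk1, hk2⟩ := B.exists_centralizer_map hcq (mem_fix_singleton.1 hc) (mem_fix_singleton.1 hq)
      have hm : k * v' * k⁻¹ ∈ fourAt G a b t := mem_inf.2 ⟨mem_pairStab.2
        ⟨by rw [← hk1, conj_smul, B'.hvH.1], by rw [← hk2, conj_smul, B'.hvH.2]⟩,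
        mul_mem (mul_mem hkC (mem_inf.1 B'.v_mem_four).2) (inv_mem hkC)⟩
      have e : (fix {t, v'} : Set Ω).ncard = (fix {t, k * v' * k⁻¹} : Set Ω).ncard := by
        conv_rhs => rw [← conj_t_eq hkC]
        rw [A4Stab.fix_conj_pair, Set.ncard_image_of_injective _ (MulAction.injective k)]
      rw [e]
      rcases B.four_cases hm with e' | e' | e' | e'
      · exact absurd (conj_eq_one_iff.1 e') (Invol.ne_one B'.hv)
      · exact absurd (mul_left_cancel (mul_right_cancel (e'.trans (conj_t_eq hkC).symm))) (Ne.symm B'.htv)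
      · rw [e', hk]
      · rw [e', A4Stab.fix_pair_mul, hk]
    exact B'.false_of_sq hn hall hN' hk' hzt hsq1 hcz

end Base

end Cfsg.Lib.A5Stab
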