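import Cfsg.Agent.Lib.A5Stab.Even
import Cfsg.Agent.Lib.A5Stab.OddCentral
import Cfsg.Agent.Lib.A5Stab.OddOuter
import Cfsg.Agent.Lib.MEleven.Spor

/-!
# Doubly transitive groups with two-point stabilizer `A₅`
-/

set_option autoImplicit false
set_option linter.style.haveILetI false
set_option linter.unusedSectionVars false

namespace Cfsg.Lib.A5Stab

open Subgroup MulAction
open Cfsg.Lib.A4Stab (pairStab mem_pairStab conj_smul fix mem_fix_singleton mem_fix_pair Swaps IsT
  eq_one_of_fix_univ card_eq_fixed_mul_inverted card_eq_card_map_mul)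

universe u w

variable {G : Type u} [Group G] [Finite G] {Ω : Type w} [Finite Ω] [MulAction G Ω] [FaithfulSMul G Ω]

/-- Degree seven gives the alternating group. -/
theorem iso_seven (hn : Nat.card Ω = 7) (hG : Nat.card G = 2520) :
    Nonempty (G ≃* ↥(alternatingGroup (Fin 7))) := by
  let f : G →* Equiv.Perm (Fin 7) :=
    ((Finite.equivFinOfCardEq hn).permCongrHom).toMonoidHom.comp (MulAction.toPermHom G Ω)
  have hf : Function.Injective f :=
    (Finite.equivFinOfCardEq hn).permCongrHom.injective.comp MulAction.toPerm_injective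
  have hcard : Nat.card f.range = 2520 := by rw [← hG]; exact (Nat.card_congr (MonoidHom.ofInjective hf).toEquiv).symm
  have hidx : f.range.index = 2 := by
    have h := f.range.card_mul_index
    rw [hcard, Nat.card_perm, Nat.card_fin, show Nat.factorial 7 = 5040 from rfl] at h
    omega
  exact ⟨(MonoidHom.ofInjective hf).trans
    (MulEquiv.subgroupCongr (Equiv.Perm.eq_alternatingGroup_of_index_eq_two hidx))⟩

namespace Base

variable {a b : Ω} {t v : G}

/-- Degree twelve gives a simple group. -/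
theorem isSimple_twelve (B : Base G a b t v) (hn : Nat.card Ω = 12)
    (hnr : ∀ N : Subgroup G, N.Normal → IsPretransitive ↥N Ω → (∀ x : Ω, stabilizer ↥N x = ⊥) → False) :
    IsSimpleGroup G := by
  classical
  obtain ⟨hG, hM, -⟩ := B.cards
  rw [hn] at hG hM
  set H := pairStab G a b
  set S := stabilizer G a with hS
  have hHS : H ≤ S := inf_le_left
  haveI : Nontrivial G := Finite.one_lt_card_iff_nontrivial.1 (by rw [hG]; norm_num)
  refine ⟨fun N hN => ?_⟩
  haveI := hN
  by_cases hN0 : N = ⊥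
  · exact Or.inl hN0
  refine Or.inr ?_
  have htr := transitive_of_normal B.toCtx N hN0
  have hNcard : Nat.card N = 12 * Nat.card ↥(N ⊓ S) := by
    have h := (stabilizer N a).card_mul_index
    rw [index_stabilizer, show MulAction.orbit N a = Set.univ from Set.eq_univ_of_forall fun p => by
      obtain ⟨m, hm, hmp⟩ := htr p; exact ⟨⟨m, hm⟩, hmp⟩, Set.ncard_univ, hn] at h
    have e : Nat.card (stabilizer N a) = Nat.card ↥(N ⊓ S) := Nat.card_congr
      { toFun := fun x => ⟨x.1.1, mem_inf.2 ⟨x.1.2, x.2⟩⟩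
        invFun := fun x => ⟨⟨x.1, (mem_inf.1 x.2).1⟩, (mem_inf.1 x.2).2⟩
        left_inv := fun x => rfl
        right_inv := fun x => rfl }
    rw [← h, e, mul_comm]
  haveI : IsSimpleGroup ↥H := by
    haveI : IsSimpleGroup AltFive := alternatingGroup.isSimpleGroup_five
    exact B.toCtx.iso.some.isSimpleGroup
  rcases IsSimpleGroup.eq_bot_or_eq_top_of_normal (N.subgroupOf H) inferInstance with h | h
  · exfalso
    have hdisj : ∀ x ∈ H, x ∈ N → x = 1 := fun x hx hxN => by
      have : (⟨x, hx⟩ : H) ∈ N.subgroupOf H := hxN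
      rw [h, mem_bot] at this
      exact congrArg Subtype.val this
    have hdvd : 60 * Nat.card ↥(N ⊓ S) ∣ 660 := by
      have h1 := card_eq_card_map_mul (QuotientGroup.mk' (N.subgroupOf S)) (H.subgroupOf S)
      rw [QuotientGroup.ker_mk', show H.subgroupOf S ⊓ N.subgroupOf S = ⊥ from eq_bot_iff.2 fun x hx =>
        mem_bot.2 (Subtype.ext (hdisj _ (mem_inf.1 hx).1 (mem_inf.1 hx).2)), Subgroup.card_bot, mul_one,
        Nat.card_congr (subgroupOfEquivOfLe hHS).toEquiv, B.toCtx.card_pairStab] at h1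
      have h2 := (N.subgroupOf S).card_mul_index
      rw [hM, ← inf_subgroupOf_right, Nat.card_congr (subgroupOfEquivOfLe inf_le_right).toEquiv] at h2
      have h3 : (60 : ℕ) ∣ (N.subgroupOf S).index := by
        rw [h1, index_eq_card]
        exact card_subgroup_dvd_card _
      rw [inf_subgroupOf_right] at h2
      rw [mul_comm, show (660 : ℕ) = 60 * (12 - 1) from rfl, ← h2]
      exact mul_dvd_mul_left _ h3
    have hR : Nat.card ↥(N ⊓ S) = 1 ∨ Nat.card ↥(N ⊓ S) = 11 := by
      have : Nat.card ↥(N ⊓ S) ∣ 11 := Nat.dvd_of_mul_dvd_mul_left (show 0 < 60 by norm_num) hdvd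
      exact (Nat.dvd_prime (by norm_num)).1 this
    rcases hR with hR | hR
    · refine hnr N hN ⟨fun p q => ?_⟩ fun x => eq_bot_iff.2 fun m hm => ?_
      · obtain ⟨m, hm, hmp⟩ := htr p
        obtain ⟨l, hl, hlq⟩ := htr q
        exact ⟨⟨l * m⁻¹, mul_mem hl (inv_mem hm)⟩, by
          show (l * m⁻¹) • p = q
          rw [← hmp, mul_smul, inv_smul_smul, hlq]⟩
      · obtain ⟨k, hk, hkx⟩ := htr x
        have hm' : (m : G) • x = x := mem_stabilizer_iff.1 hm
        have hmem : k⁻¹ * (m : G) * k ∈ N ⊓ S := mem_inf.2 ⟨mul_mem (mul_mem (inv_mem hk) m.2) hk,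
          mem_stabilizer_iff.2 (by rw [mul_smul, mul_smul, hkx, hm', ← hkx, inv_smul_smul])⟩
        rw [eq_bot_of_card_eq (N ⊓ S) hR, mem_bot] at hmem
        refine mem_bot.2 (Subtype.ext ?_)
        calc (m : G) = k * (k⁻¹ * (m : G) * k) * k⁻¹ := by group
          _ = 1 := by rw [hmem, mul_one, mul_inv_cancel]
    · set R := N ⊓ S with hRdef
      have hnorm : ∀ x ∈ S, ∀ r ∈ R, x * r * x⁻¹ ∈ R := fun x hx r hr =>
        mem_inf.2 ⟨hN.conj_mem r (mem_inf.1 hr).1 x, mul_mem (mul_mem hx (mem_inf.1 hr).2) (inv_mem hx)⟩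
      have hinvert : ∀ x ∈ H, orderOf x = 2 → ∀ r ∈ R, x * r * x⁻¹ = r⁻¹ := by
        intro x hx hxo r hr
        have hc := card_eq_fixed_mul_inverted R (by rw [hR]; decide) hxo (fun a' ha' => hnorm x (hHS hx) a' ha')
        obtain ⟨v', B'⟩ := exists_base_of B.toCtx hx hxo
        have hC : Nat.card ↥(R ⊓ centralizer ({x} : Set G)) = 1 := by
          obtain ⟨-, -, -, h4, -⟩ := B'.cards
          have h1 : Nat.card ↥(R ⊓ centralizer ({x} : Set G)) ∣ 4 * ((fix {x} : Set Ω).ncard - 1) := by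
            rw [← h4]
            exact card_dvd_of_le (le_inf inf_le_right (inf_le_left.trans inf_le_right))
          have h2 : Nat.card ↥(R ⊓ centralizer ({x} : Set G)) ∣ 11 := hR ▸ card_dvd_of_le inf_le_left
          rcases (Nat.dvd_prime (by norm_num : Nat.Prime 11)).1 h2 with e | e
          · exact e
          · exfalso
            have h3 := B'.fix_lt
            have h5 := B'.two_le_fix₂.trans B'.fix₂_le
            rw [e] at h1
            have := Nat.le_of_dvd (by omega) ((Nat.Coprime.dvd_of_dvd_mul_left (by norm_num) h1))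
            omega
        rw [hC, one_mul] at hc
        have hall : {k : G | k ∈ R ∧ x * k * x⁻¹ = k⁻¹} = (R : Set G) :=
          Set.eq_of_subset_of_ncard_le (fun k hk => hk.1) (by
            rw [← Nat.card_coe_set_eq, ← Nat.card_coe_set_eq]
            exact le_of_eq hc)
        have : r ∈ {k : G | k ∈ R ∧ x * k * x⁻¹ = k⁻¹} := by rw [hall]; exact hr
        exact this.2
      haveI : Nontrivial R := Finite.one_lt_card_iff_nontrivial.1 (by rw [hR]; norm_num)
      obtain ⟨r, hr⟩ := exists_ne (1 : R)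
      have e1 := hinvert t B.htH B.ht r r.2
      have e2 := hinvert v B.hvH B.hv r r.2
      have e3 := hinvert (t * v) (mul_mem B.htH B.hvH) B.orderOf_tv r r.2
      have e4 : t * v * (r : G) * (t * v)⁻¹ = r := by
        rw [show t * v * (r : G) * (t * v)⁻¹ = t * (v * r * v⁻¹) * t⁻¹ by group, e2,
          show t * (r : G)⁻¹ * t⁻¹ = (t * r * t⁻¹)⁻¹ by group, e1, inv_inv]
      rw [e4] at e3
      have h2 : (r : G) * r = 1 := mul_eq_one_iff_eq_inv.2 e3
      exact hr (Subtype.ext (A4Stab.eq_of_odd_sq (O := R) (by rw [hR]; decide) r.2 h2))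
  · have hHN : H ≤ N := subgroupOf_eq_top.1 h
    have hle : H ≤ N ⊓ S := le_inf hHN hHS
    have h1 : 60 ∣ Nat.card ↥(N ⊓ S) := B.toCtx.card_pairStab ▸ card_dvd_of_le hle
    have h2 : Nat.card ↥(N ⊓ S) ∣ 660 := by
      have := card_dvd_of_le (inf_le_right : N ⊓ S ≤ S)
      rw [hM] at this
      exact this
    obtain ⟨d, hd⟩ := h1
    rw [hd, show (660 : ℕ) = 60 * 11 from rfl] at h2
    rcases (Nat.dvd_prime (by norm_num : Nat.Prime 11)).1 (Nat.dvd_of_mul_dvd_mul_left (by norm_num) h2) with e | e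
    · exfalso
      rw [e, mul_one] at hd
      have heq : H = N ⊓ S := eq_of_le_of_card_ge hle (by rw [hd, B.toCtx.card_pairStab])
      refine Invol.ne_one B.ht (eq_one_of_fix_univ (Ω := Ω) fun p => ?_)
      rcases eq_or_ne p a with rfl | hp
      · exact mem_fix_singleton.1 B.a_mem_fix
      obtain ⟨g, hga, hgb⟩ := B.toCtx.two B.toCtx.ne hp.symm
      have hgS : g ∈ S := mem_stabilizer_iff.2 hga
      have : g⁻¹ * t * g⁻¹⁻¹ ∈ H := by
        rw [heq]
        exact mem_inf.2 ⟨hN.conj_mem t (hHN B.htH) g⁻¹, mul_mem (mul_mem (inv_mem hgS) (hHS B.htH)) (inv_mem (inv_mem hgS))⟩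
      have h' := (mem_pairStab.1 this).2
      rw [inv_inv, mul_smul, mul_smul, hgb, inv_smul_eq_iff, hgb] at h'
      exact h'
    · rw [e] at hd
      exact eq_top_of_card_eq N (by rw [hNcard, hd, hG])

end Base

/-- The theorem. -/
theorem main {a b : Ω} (c : Ctx G a b)
    (hnr : ∀ N : Subgroup G, N.Normal → IsPretransitive ↥N Ω → (∀ x : Ω, stabilizer ↥N x = ⊥) → False) :
    (Nat.card Ω = 7 ∧ Nonempty (G ≃* ↥(alternatingGroup (Fin 7)))) ∨
      (Nat.card Ω = 12 ∧ Cfsg.Spor.IsoM11 G) := by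
  obtain ⟨t, v, B⟩ := exists_base c
  obtain ⟨hG, -⟩ := B.cards
  rcases Nat.mod_two_eq_zero_or_one (Nat.card Ω) with hn | hn
  · have h := B.twelve_of_even hn
    rw [h] at hG
    exact Or.inr ⟨h, Cfsg.Lib.MEleven.isoM11 ⟨B.isSimple_twelve h hnr, by rw [hG]⟩⟩
  · refine Or.inl ?_
    rcases B.dichotomy with ⟨z, hz⟩ | ⟨u, hu⟩
    · exfalso
      by_cases hzT : IsT G Ω z
      · exact B.false_of_central_isT hn hz hzT
      · obtain ⟨N, h1, h2, h3⟩ := B.regular_of_lone hn hz hzT
        exact hnr N h1 h2 h3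
    · have h := B.seven_of_outer hn hu
      rw [h] at hG
      exact ⟨h, iso_seven h (by rw [hG])⟩

end Cfsg.Lib.A5Stab
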