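import Cfsg.Agent.Lib.A5Stab.Point

/-!
# The elements exchanging two points
-/

set_option autoImplicit false
set_option linter.style.haveILetI false
set_option linter.unusedSectionVars false

namespace Cfsg.Lib.A5Stab

open Subgroup MulAction
open Cfsg.Lib.A4Stab (pairStab mem_pairStab conj_smul fix mem_fix_singleton mem_fix_pair Swaps IsT)

universe u w

variable {G : Type u} [Group G] [Finite G] {Ω : Type w} [Finite Ω] [MulAction G Ω] [FaithfulSMul G Ω]

/-- An involution exchanging `a`, `b` and centralizing their stabilizer. -/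
structure Central (G : Type u) [Group G] {Ω : Type w} [MulAction G Ω] (a b : Ω) (z : G) : Prop where
  ord : orderOf z = 2
  swaps : Swaps z a b
  comm : ∀ h ∈ pairStab G a b, Commute z h

/-- The setwise stabilizer of the two points is the symmetric group. -/
structure Outer (G : Type u) [Group G] {Ω : Type w} [MulAction G Ω] (a b : Ω) (t v u : G) : Prop where
  ord : orderOf u = 2
  swaps : Swaps u a b
  comm : Commute u t
  moves : u * v * u⁻¹ = t * v
  all : ∀ g : G, orderOf g = 2 → Swaps g a b → ∃ h ∈ pairStab G a b, h * u * h⁻¹ = g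
  count : {g : G | orderOf g = 2 ∧ Swaps g a b}.ncard = 10

/-- The setwise stabilizer of two points. -/
def setStab (G : Type u) [Group G] {Ω : Type w} [MulAction G Ω] (a b : Ω) : Subgroup G where
  carrier := {g | (g • a = a ∧ g • b = b) ∨ Swaps g a b}
  one_mem' := Or.inl ⟨one_smul G a, one_smul G b⟩
  mul_mem' := fun {x y} hx hy => by
    rcases hx with ⟨h1, h2⟩ | ⟨h1, h2⟩ <;> rcases hy with ⟨h3, h4⟩ | ⟨h3, h4⟩
    · exact Or.inl ⟨by rw [mul_smul, h3, h1], by rw [mul_smul, h4, h2]⟩
    · exact Or.inr ⟨by rw [mul_smul, h3, h2], by rw [mul_smul, h4, h1]⟩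
    · exact Or.inr ⟨by rw [mul_smul, h3, h1], by rw [mul_smul, h4, h2]⟩
    · exact Or.inl ⟨by rw [mul_smul, h3, h2], by rw [mul_smul, h4, h1]⟩
  inv_mem' := fun {x} hx => by
    rcases hx with ⟨h1, h2⟩ | ⟨h1, h2⟩
    · exact Or.inl ⟨inv_smul_eq_iff.2 h1.symm, inv_smul_eq_iff.2 h2.symm⟩
    · exact Or.inr ⟨inv_smul_eq_iff.2 h2.symm, inv_smul_eq_iff.2 h1.symm⟩

theorem mem_setStab {a b : Ω} {g : G} : g ∈ setStab G a b ↔ g ∈ pairStab G a b ∨ Swaps g a b := Iff.rfl

theorem pairStab_le_setStab {a b : Ω} : pairStab G a b ≤ setStab G a b := fun _ h => Or.inl h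

theorem swaps_conj_pairStab {a b : Ω} {g h : G} (hg : Swaps g a b) (hh : h ∈ pairStab G a b) :
    g * h * g⁻¹ ∈ pairStab G a b := by
  obtain ⟨hga, hgb⟩ := hg
  obtain ⟨h1, h2⟩ := mem_pairStab.1 hh
  have ea : g⁻¹ • a = b := inv_smul_eq_iff.2 hgb.symm
  have eb : g⁻¹ • b = a := inv_smul_eq_iff.2 hga.symm
  exact mem_pairStab.2 ⟨by rw [mul_smul, mul_smul, ea, h2, hgb], by rw [mul_smul, mul_smul, eb, h1, hga]⟩

theorem swaps_mul_mem {a b : Ω} {g k : G} (hg : Swaps g a b) (hk : Swaps k a b) : g * k ∈ pairStab G a b :=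
  mem_pairStab.2 ⟨by rw [mul_smul, hk.1, hg.2], by rw [mul_smul, hk.2, hg.1]⟩

theorem swaps_mul_pairStab {a b : Ω} {g h : G} (hg : Swaps g a b) (hh : h ∈ pairStab G a b) : Swaps (g * h) a b :=
  ⟨by rw [mul_smul, (mem_pairStab.1 hh).1, hg.1], by rw [mul_smul, (mem_pairStab.1 hh).2, hg.2]⟩

namespace Base

variable {a b : Ω} {t v : G}

theorem not_swaps_of_mem (B : Base G a b t v) {g : G} (hg : g ∈ pairStab G a b) : ¬ Swaps g a b := fun h =>
  B.toCtx.ne ((mem_pairStab.1 hg).1.symm.trans h.1)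

/-- The centralizer of an involution of the four group in the pair stabilizer is the four group. -/
theorem fourAt_eq (B : Base G a b t v) {j : G} (hj : j ∈ fourAt G a b t) (hj1 : j ≠ 1) :
    fourAt G a b j = fourAt G a b t := by
  refine (eq_of_le_of_card_ge (fun x hx => mem_inf.2 ⟨(mem_inf.1 hx).1, mem_centralizer_singleton_iff.2 ?_⟩)
    (le_of_eq ?_)).symm
  · have h1 : Commute x t := mem_centralizer_singleton_iff.1 (mem_inf.1 hx).2
    have h2 : Commute x v := by
      rcases B.four_cases hx with e | e | e | e <;> rw [e]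
      exacts [Commute.one_left v, B.commute_tv, B.commute_tv.mul_left (Commute.refl v)]
    exact (B.commute_four_of h1 h2 hj).eq
  · rw [B.card_four, B.toCtx.card_centralizer_invol (mem_inf.1 hj).1 (Invol.orderOf_eq_two_of hj1 (B.four_sq hj))]

theorem mem_normalizer_iff_commute (B : Base G a b t v) {h : G} (hh : h ∈ pairStab G a b) :
    h ∈ normalizer (fourAt G a b t : Set G) ↔ h * t * h⁻¹ * t = t * (h * t * h⁻¹) := by
  constructor
  · intro hn
    exact mem_centralizer_singleton_iff.1 (mem_inf.1 ((mem_normalizer_iff.1 hn t).1 B.t_mem_four)).2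
  · intro hc
    have hj : h * t * h⁻¹ ∈ fourAt G a b t :=
      mem_inf.2 ⟨mul_mem (mul_mem hh B.htH) (inv_mem hh), mem_centralizer_singleton_iff.2 hc⟩
    have he := B.fourAt_eq hj (fun e => Invol.ne_one B.ht (conj_eq_one_iff.1 e))
    have hsub : ∀ x ∈ fourAt G a b t, h * x * h⁻¹ ∈ fourAt G a b t := fun x hx => by
      rw [← he]
      refine mem_inf.2 ⟨mul_mem (mul_mem hh (mem_inf.1 hx).1) (inv_mem hh), mem_centralizer_singleton_iff.2 ?_⟩
      have := mem_centralizer_singleton_iff.1 (mem_inf.1 hx).2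
      calc h * x * h⁻¹ * (h * t * h⁻¹) = h * (x * t) * h⁻¹ := by group
        _ = h * (t * x) * h⁻¹ := by rw [this]
        _ = _ := by group
    refine mem_normalizer_iff.2 fun x => ⟨hsub x, fun hx => ?_⟩
    have heq : (fourAt G a b t).map (MulAut.conj h).toMonoidHom = fourAt G a b t :=
      eq_of_le_of_card_ge (by rintro _ ⟨y, hy, rfl⟩; exact hsub y hy)
        (by rw [card_map_of_injective (MulAut.conj h).injective])
    rw [← heq] at hx
    obtain ⟨y, hy, hye⟩ := hx
    rwa [(MulAut.conj h).injective hye] at hy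

theorem card_normalizer_pairStab (B : Base G a b t v) :
    Nat.card ↥(pairStab G a b ⊓ normalizer (fourAt G a b t : Set G)) = 12 := by
  classical
  obtain ⟨e⟩ := B.toCtx.iso
  rw [← card_norm (e ⟨t, B.htH⟩)
    (by rw [← map_mul, ← map_one e]; exact congrArg e (Subtype.ext B.htt))
    (fun h => Invol.ne_one B.ht (congrArg Subtype.val (e.injective (h.trans (map_one e).symm)))),
    ← B.toCtx.card_transfer (fun h => h * t * h⁻¹ * t = t * (h * t * h⁻¹)) _ e fun h => by
      rw [← map_inv, ← map_mul, ← map_mul, ← map_mul, ← map_mul, e.injective.eq_iff, Subtype.ext_iff]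
      rfl, ← Nat.card_coe_set_eq]
  exact Nat.card_congr (Equiv.subtypeEquivRight fun h => by
    rw [mem_inf]
    exact and_congr_right fun hh => B.mem_normalizer_iff_commute hh)

/-- An element exchanging the points and commuting with `t`. -/
theorem exists_swap_comm (B : Base G a b t v) : ∃ g : G, Swaps g a b ∧ Commute g t := by
  obtain ⟨g, hga, hgb⟩ := B.toCtx.two B.toCtx.ne B.toCtx.ne.symm
  obtain ⟨h, hh, he⟩ := B.toCtx.exists_conj (swaps_conj_pairStab ⟨hga, hgb⟩ B.htH) B.htH
    (by rw [Invol.orderOf_conj_eq, B.ht]) B.ht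
  refine ⟨h * g, ⟨by rw [mul_smul, hga, (mem_pairStab.1 hh).2], by rw [mul_smul, hgb, (mem_pairStab.1 hh).1]⟩, ?_⟩
  show h * g * t = t * (h * g)
  calc h * g * t = h * (g * t * g⁻¹) * h⁻¹ * (h * g) := by group
    _ = t * (h * g) := by rw [he]

/-- The two shapes of the setwise stabilizer. -/
theorem dichotomy (B : Base G a b t v) : (∃ z, Central G a b z) ∨ ∃ u, Outer G a b t v u := by
  classical
  set S := setStab G a b with hSdef
  obtain ⟨g1, hg1, hg1t⟩ := B.exists_swap_comm
  have hg1S : g1 ∈ S := Or.inr hg1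
  have hHS : pairStab G a b ≤ S := pairStab_le_setStab
  set H' := (pairStab G a b).subgroupOf S with hH'
  have hH'2 : H'.index = 2 := by
    rw [index_eq_two_iff]
    refine ⟨⟨g1, hg1S⟩, fun x => ?_⟩
    rcases mem_setStab.1 x.2 with hx | hx
    · exact Or.inr ⟨hx, fun h => B.not_swaps_of_mem ((mul_mem_cancel_left hx).1 h) hg1⟩
    · exact Or.inl ⟨swaps_mul_mem hx hg1, fun h => B.not_swaps_of_mem h hx⟩
  have hS120 : Nat.card S = 120 := by
    have := H'.card_mul_index
    rw [Nat.card_congr (subgroupOfEquivOfLe hHS).toEquiv, B.toCtx.card_pairStab, hH'2] at this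
    omega
  set N := (normalizer (fourAt G a b t : Set G)).subgroupOf S with hN
  have hg1N : g1 ∈ normalizer (fourAt G a b t : Set G) := by
    have hsub : ∀ x ∈ fourAt G a b t, g1 * x * g1⁻¹ ∈ fourAt G a b t := fun x hx =>
      mem_inf.2 ⟨swaps_conj_pairStab hg1 (mem_inf.1 hx).1,
        mul_mem (mul_mem (mem_centralizer_singleton_iff.2 hg1t.eq) (mem_inf.1 hx).2)
          (inv_mem (mem_centralizer_singleton_iff.2 hg1t.eq))⟩
    refine mem_normalizer_iff.2 fun x => ⟨hsub x, fun hx => ?_⟩
    have heq : (fourAt G a b t).map (MulAut.conj g1).toMonoidHom = fourAt G a b t :=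
      eq_of_le_of_card_ge (by rintro _ ⟨y, hy, rfl⟩; exact hsub y hy)
        (by rw [card_map_of_injective (MulAut.conj g1).injective])
    rw [← heq] at hx
    obtain ⟨y, hy, hye⟩ := hx
    rwa [(MulAut.conj g1).injective hye] at hy
  have hN5 : N.index = 5 := by
    have hidx : (H'.subgroupOf N).index = 2 := by
      rw [index_eq_two_iff]
      refine ⟨⟨⟨g1, hg1S⟩, hg1N⟩, fun x => ?_⟩
      rcases mem_setStab.1 x.1.2 with hx | hx
      · exact Or.inr ⟨hx, fun h => B.not_swaps_of_mem ((mul_mem_cancel_left hx).1 h) hg1⟩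
      · exact Or.inl ⟨swaps_mul_mem hx hg1, fun h => B.not_swaps_of_mem h hx⟩
    have hNH : Nat.card (H'.subgroupOf N) = 12 := by
      rw [← B.card_normalizer_pairStab]
      exact Nat.card_congr
        { toFun := fun x => ⟨x.1.1.1, mem_inf.2 ⟨x.2, x.1.2⟩⟩
          invFun := fun x => ⟨⟨⟨x.1, hHS (mem_inf.1 x.2).1⟩, (mem_inf.1 x.2).2⟩, (mem_inf.1 x.2).1⟩
          left_inv := fun x => rfl
          right_inv := fun x => rfl }
    have h24 := (H'.subgroupOf N).card_mul_index
    rw [hNH, hidx] at h24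
    have h := N.card_mul_index
    rw [← h24, hS120] at h
    omega
  let ψ : S →* SymFive :=
    ((Finite.equivFinOfCardEq (by rw [← index_eq_card, hN5] : Nat.card (↥S ⧸ N) = 5)).permCongrHom).toMonoidHom.comp
      (MulAction.toPermHom S (↥S ⧸ N))
  have hker : ψ.ker ≤ N := fun k hk => by
    rw [MonoidHom.mem_ker] at hk
    have h1 : MulAction.toPermHom S (↥S ⧸ N) k = 1 :=
      (Finite.equivFinOfCardEq _).permCongrHom.injective (hk.trans (map_one _).symm)
    have h2 := congrArg (fun σ : Equiv.Perm (↥S ⧸ N) => σ ((1 : S) : ↥S ⧸ N)) h1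
    simp only [MulAction.toPermHom_apply, MulAction.toPerm_apply, Equiv.Perm.coe_one, id_eq] at h2
    rw [MulAction.Quotient.smul_coe, smul_eq_mul, mul_one] at h2
    exact inv_mem_iff.1 (by simpa using QuotientGroup.eq.1 h2)
  haveI : IsSimpleGroup ↥(pairStab G a b) := by
    haveI : IsSimpleGroup AltFive := alternatingGroup.isSimpleGroup_five
    exact B.toCtx.iso.some.isSimpleGroup
  have hmeet : ∀ k : S, k ∈ ψ.ker → (k : G) ∈ pairStab G a b → k = 1 := by
    intro k hk hkH
    let K0 : Subgroup ↥(pairStab G a b) := ψ.ker.comap (Subgroup.inclusion hHS)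
    rcases IsSimpleGroup.eq_bot_or_eq_top_of_normal K0 inferInstance with h | h
    · have : (⟨k, hkH⟩ : ↥(pairStab G a b)) ∈ K0 := by
        show Subgroup.inclusion hHS _ ∈ ψ.ker
        exact hk
      rw [h, mem_bot] at this
      exact Subtype.ext (congrArg (fun x : ↥(pairStab G a b) => (x : G)) this)
    · exfalso
      have hle : pairStab G a b ≤ normalizer (fourAt G a b t : Set G) := fun x hx => by
        have : (⟨x, hx⟩ : ↥(pairStab G a b)) ∈ K0 := h ▸ mem_top _
        exact hker this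
      have := B.card_normalizer_pairStab
      rw [inf_eq_left.2 hle, B.toCtx.card_pairStab] at this
      omega
  by_cases hz : ∃ z : S, z ∈ ψ.ker ∧ z ≠ 1
  · obtain ⟨z, hzk, hz1⟩ := hz
    have hzs : Swaps (z : G) a b := (mem_setStab.1 z.2).resolve_left fun h => hz1 (hmeet z hzk h)
    have hzz : (z : G) * z = 1 :=
      congrArg Subtype.val (hmeet (z * z) (mul_mem hzk hzk) (swaps_mul_mem hzs hzs))
    refine Or.inl ⟨z, Invol.orderOf_eq_two_of (fun h => hz1 (Subtype.ext h)) hzz, hzs, fun h hh => ?_⟩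
    have hk : (⟨h, hHS hh⟩ : S) * z * (⟨h, hHS hh⟩ : S)⁻¹ * z⁻¹ ∈ ψ.ker :=
      mul_mem (ψ.normal_ker.conj_mem z hzk _) (inv_mem hzk)
    have hH : h * (z : G) * h⁻¹ * (z : G)⁻¹ ∈ pairStab G a b := by
      rw [show h * (z : G) * h⁻¹ * (z : G)⁻¹ = h * ((z : G) * h⁻¹ * (z : G)⁻¹) by group]
      exact mul_mem hh (swaps_conj_pairStab hzs (inv_mem hh))
    have e : h * (z : G) * h⁻¹ * (z : G)⁻¹ = 1 := congrArg Subtype.val (hmeet _ hk hH)
    exact ((mul_inv_eq_iff_eq_mul.1 (mul_inv_eq_one.1 e))).symm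
  · push Not at hz
    have hinj : Function.Injective ψ := (MonoidHom.ker_eq_bot_iff ψ).1 (eq_bot_iff.2 fun k hk => mem_bot.2 (hz k hk))
    have hbij : Function.Bijective ψ := by
      haveI := Fintype.ofFinite S
      refine (Fintype.bijective_iff_injective_and_card ψ).2 ⟨hinj, ?_⟩
      rw [← Nat.card_eq_fintype_card, hS120, Fintype.card_perm, Fintype.card_fin]
      rfl
    let Φ : S ≃* SymFive := MulEquiv.ofBijective ψ hbij
    have hsign : ∀ x : S, (x : G) ∈ pairStab G a b ↔ Equiv.Perm.sign (Φ x) = 1 := by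
      intro x
      have hidx : (H'.map Φ.toMonoidHom).index = 2 := (index_map_equiv H' Φ).trans hH'2
      have he := Equiv.Perm.eq_alternatingGroup_of_index_eq_two hidx
      rw [← Equiv.Perm.mem_alternatingGroup, ← he, mem_map_equiv, MulEquiv.symm_apply_apply]
      rfl
    have hswap : ∀ x : S, Swaps (x : G) a b ↔ Equiv.Perm.sign (Φ x) = -1 := by
      intro x
      constructor
      · intro h
        exact (Int.units_eq_one_or _).resolve_left fun h1 => B.not_swaps_of_mem ((hsign x).2 h1) h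
      · intro h
        refine (mem_setStab.1 x.2).resolve_left fun h1 => ?_
        rw [(hsign x).1 h1] at h
        exact absurd h (by decide)
    set xt : S := ⟨t, hHS B.htH⟩ with hxt
    set xv : S := ⟨v, hHS B.hvH⟩ with hxv
    obtain ⟨y, hy2, hys, hyt, hyv⟩ := odd_moves (Φ xt)
      (by rw [← map_mul, ← map_one Φ]; exact congrArg Φ (Subtype.ext B.htt)) ((hsign xt).1 B.htH)
      (fun h => Invol.ne_one B.ht (congrArg Subtype.val (Φ.injective (h.trans (map_one Φ).symm))))
      (Φ xv) (by rw [← map_mul, ← map_one Φ]; exact congrArg Φ (Subtype.ext B.hvv)) ((hsign xv).1 B.hvH)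
      (by rw [← map_mul, ← map_mul]; exact congrArg Φ (Subtype.ext B.commute_tv.eq.symm))
      (fun h => Invol.ne_one B.hv (congrArg Subtype.val (Φ.injective (h.trans (map_one Φ).symm))))
      (fun h => B.htv (congrArg Subtype.val (Φ.injective h)).symm)
    set u : S := Φ.symm y with hu
    have huy : Φ u = y := Φ.apply_symm_apply y
    have hu2 : u * u = 1 := Φ.injective (by rw [map_mul, map_one, huy, hy2])
    have hus : Swaps (u : G) a b := (hswap u).2 (by rw [huy, hys])
    have hu1 : (u : G) ≠ 1 := fun h => B.not_swaps_of_mem (by rw [h]; exact one_mem _) hus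
    have huo : orderOf (u : G) = 2 := Invol.orderOf_eq_two_of hu1 (congrArg Subtype.val hu2)
    have hut : u * xt = xt * u := Φ.injective (by rw [map_mul, map_mul, huy, hyt])
    have huv : u * xv * u = xt * xv := Φ.injective (by rw [map_mul, map_mul, map_mul, huy, hyv])
    refine Or.inr ⟨u, huo, hus, congrArg Subtype.val hut, ?_, ?_, ?_⟩
    · rw [Invol.inv_eq_self huo]
      exact congrArg Subtype.val huv
    · intro g hgo hgs
      obtain ⟨c, hc, hce⟩ := odd_invol_conj (Φ u) (by rw [huy, hy2]) (by rw [huy, hys]) (Φ ⟨g, Or.inr hgs⟩)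
        (by rw [← map_mul, ← map_one Φ]; exact congrArg Φ (Subtype.ext (Invol.inv_mul_self hgo)))
        ((hswap _).1 hgs)
      refine ⟨(Φ.symm c : S), (hsign _).2 (by rw [Φ.apply_symm_apply, hc]), ?_⟩
      have h := congrArg Φ.symm hce
      simp only [map_mul, map_inv, MulEquiv.symm_apply_apply] at h
      exact congrArg Subtype.val h
    · rw [← card_odd_invol, ← Nat.card_coe_set_eq, ← Fintype.card_subtype, ← Nat.card_eq_fintype_card]
      refine Nat.card_congr
        { toFun := fun g => ⟨Φ ⟨g.1, Or.inr g.2.2⟩, by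
            rw [← map_mul, ← map_one Φ]; exact congrArg Φ (Subtype.ext (Invol.inv_mul_self g.2.1)), (hswap _).1 g.2.2⟩
          invFun := fun y => ⟨(Φ.symm y.1 : S), Invol.orderOf_eq_two_of
            (fun h => B.not_swaps_of_mem (by rw [h]; exact one_mem _)
              ((hswap (Φ.symm y.1)).2 (by rw [Φ.apply_symm_apply]; exact y.2.2)))
            (congrArg Subtype.val (show Φ.symm y.1 * Φ.symm y.1 = 1 by rw [← map_mul, y.2.1, map_one])),
            (hswap (Φ.symm y.1)).2 (by rw [Φ.apply_symm_apply]; exact y.2.2)⟩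
          left_inv := fun g => by simp
          right_inv := fun y => Subtype.ext (Φ.apply_symm_apply y.1) }

end Base

end Cfsg.Lib.A5Stab
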